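import Groth.Prelude.Def_DefoSh
import Groth.Agent.Lib.Lead.Inj.NoethObj
import Groth.Agent.Lib.Helper1.Dec3

/-!
# Morphisms of deformations of a module over a local Artinian algebra are isomorphisms
-/

set_option autoImplicit false
universe u
open CategoryTheory Limits AlgebraicGeometry TopologicalSpace Opposite

namespace Groth.Agent.LD.DefoIso

section Alg

variable {A : Type u} [CommRing A] (m : Ideal A) {M M' Q : Type u} [AddCommGroup M] [Module A M]
  [AddCommGroup M'] [Module A M'] [AddCommGroup Q]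

/-- nilpotent Nakayama, surjectivity form. -/
lemma eq_top_of_sup_smul (n : ℕ) (hm : m ^ n = ⊥) (N : Submodule A M')
    (h : N ⊔ m • (⊤ : Submodule A M') = ⊤) : N = ⊤ := by
  have key : ∀ j : ℕ, N ⊔ m ^ j • (⊤ : Submodule A M') = ⊤ := by
    intro j
    induction j with
    | zero => rw [pow_zero, Ideal.one_eq_top, Submodule.top_smul, sup_top_eq]
    | succ j ih =>
      apply le_antisymm le_top
      calc ⊤ = N ⊔ m ^ j • (⊤ : Submodule A M') := ih.symm
        _ = N ⊔ m ^ j • (N ⊔ m • (⊤ : Submodule A M')) := by rw [h]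
        _ ≤ N ⊔ m ^ (j + 1) • (⊤ : Submodule A M') := by
          rw [Submodule.smul_sup, ← Submodule.mul_smul, ← pow_succ]
          exact sup_le le_sup_left
            (sup_le (le_sup_of_le_left Submodule.smul_le_right) le_sup_right)
  have := key n
  rwa [hm, Submodule.bot_smul, sup_bot_eq] at this

/-- nilpotent Nakayama, vanishing form. -/
lemma eq_bot_of_le_smul (n : ℕ) (hm : m ^ n = ⊥) (K : Submodule A M) (h : K ≤ m • K) :
    K = ⊥ := by
  have key : ∀ j : ℕ, K ≤ m ^ j • K := by
    intro j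
    induction j with
    | zero => rw [pow_zero, Ideal.one_eq_top, Submodule.top_smul]
    | succ j ih =>
      calc K ≤ m ^ j • K := ih
        _ ≤ m ^ j • (m • K) := Submodule.smul_mono le_rfl h
        _ = m ^ (j + 1) • K := by rw [← Submodule.mul_smul, ← pow_succ]
  have := key n
  rw [hm, Submodule.bot_smul] at this
  exact le_bot_iff.mp this

theorem bijective_of_defo [Module.Flat A M'] (n : ℕ) (hm : m ^ n = ⊥)
    (φ : M →ₗ[A] M') (π : M →+ Q) (π' : M' →+ Q) (hππ : ∀ x, π' (φ x) = π x)
    (hsurj : Function.Surjective π)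
    (hker : ∀ x, π x = 0 → x ∈ m • (⊤ : Submodule A M))
    (hker' : ∀ y, π' y = 0 → y ∈ m • (⊤ : Submodule A M')) :
    Function.Bijective φ := by
  have hφs : Function.Surjective φ := by
    rw [← LinearMap.range_eq_top]
    apply eq_top_of_sup_smul m n hm
    rw [eq_top_iff]
    intro y _
    obtain ⟨x, hx⟩ := hsurj (π' y)
    have h0 : π' (y - φ x) = 0 := by rw [map_sub, hππ, hx, sub_self]
    have h1 := hker' _ h0
    have : y = φ x + (y - φ x) := by abel
    rw [this]
    exact Submodule.add_mem_sup (LinearMap.mem_range_self φ x) h1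
  refine ⟨?_, hφs⟩
  rw [← LinearMap.ker_eq_bot]
  apply eq_bot_of_le_smul m n hm
  intro x hx
  have h0 : π x = 0 := by rw [← hππ, LinearMap.mem_ker.mp hx, map_zero]
  exact Groth.Agent.Lib.Helper1.Dec.mem_smul_ker_of_flat' φ hφs m x hx (hker x h0)

end Alg

variable {k : Type u} [Field k] {X : Scheme.{u}} [X.Over (Spec (CommRingCat.of k))]
  {E : X.Modules} {A : ArtFun.Art k k}

theorem isIso_of_defo (D D' : DefoSh.Defo E A) (φ : D.sheaf ⟶ D'.sheaf)
    (hact : ∀ a : A, D.act a ≫ φ = φ ≫ D'.act a) (hπ : φ ≫ D'.π = D.π) : IsIso φ := by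
  have hbij : ∀ p : X, Function.Bijective (RefHull.stalkMapₗ φ p) := by
    intro p
    letI := D.stalkMod p
    letI := D'.stalkMod p
    haveI : Module.Flat A ↑(D'.sheaf.presheaf.stalk p) := D'.flat p
    obtain ⟨n, hn⟩ : ∃ n, IsLocalRing.maximalIdeal A ^ n = ⊥ := by
      have h := IsArtinianRing.isNilpotent_jacobson_bot (R := A)
      rw [IsLocalRing.jacobson_eq_maximalIdeal ⊥ bot_ne_top] at h
      obtain ⟨n, hn⟩ := h
      exact ⟨n, by rw [hn, Ideal.zero_eq_bot]⟩
    let φl : ↑(D.sheaf.presheaf.stalk p) →ₗ[A] ↑(D'.sheaf.presheaf.stalk p) :=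
      { toFun := RefHull.stalkMapₗ φ p
        map_add' := map_add _
        map_smul' := fun a v => by
          change RefHull.stalkMapₗ φ p (RefHull.stalkMapₗ (D.act a) p v) =
            RefHull.stalkMapₗ (D'.act a) p (RefHull.stalkMapₗ φ p v)
          rw [← DefoSh.stalkMapₗ_comp_apply, ← DefoSh.stalkMapₗ_comp_apply, hact] }
    exact bijective_of_defo (IsLocalRing.maximalIdeal A) n hn φl
      (RefHull.stalkMapₗ D.π p).toAddMonoidHom (RefHull.stalkMapₗ D'.π p).toAddMonoidHom
      (fun x => by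
        change RefHull.stalkMapₗ D'.π p (RefHull.stalkMapₗ φ p x) = RefHull.stalkMapₗ D.π p x
        rw [← DefoSh.stalkMapₗ_comp_apply, hπ])
      (D.surj p) (fun x hx => D.ker_le p x hx) (fun x hx => D'.ker_le p x hx)
  haveI : Mono φ := by
    rw [Groth.Agent.H4.FlatPull1.mono_iff_stalk]
    intro x
    rw [ModuleCat.mono_iff_injective]
    exact (hbij x).1
  exact Groth.Agent.LD.NoethObj.isIso_of_surjAt φ (fun y => (hbij y).2)

end Groth.Agent.LD.DefoIso
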