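import Mathlib
import Groth.Prelude.Def_TorSh
import Groth.Prelude.Def_Coh
import Groth.Agent.Lib.Helper7.TorFreeGerm
import Groth.Agent.Lib.Lead.QC.Gen
import Groth.Agent.Lib.Lead.QCQS.RestrictOI

/-! lead: morphisms into torsion-free quasi-coherent modules on reduced locally Noetherian schemes
are determined on dense opens; quotients which agree on a dense open agree (S18914). -/

set_option autoImplicit false

universe u

open CategoryTheory Limits AlgebraicGeometry TopologicalSpace Opposite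

namespace Groth.Agent.LD.TFDense

open Groth.Agent.LD.QC

variable {X : Scheme.{u}}

/-- a dense open subset contains the generic points of the irreducible components of the affine
opens of a locally Noetherian scheme. -/
theorem fromSpec_mem_of_dense [IsLocallyNoetherian X] {W : X.Opens} (hW : IsAffineOpen W)
    (P : PrimeSpectrum Γ(X, W)) (hP : P.asIdeal ∈ minimalPrimes Γ(X, W))
    (U : X.Opens) (hU : Dense (U : Set X)) : hW.fromSpec P ∈ U := by
  haveI : IsNoetherianRing Γ(X, W) := IsLocallyNoetherian.component_noetherian ⟨W, hW⟩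
  have hZ : PrimeSpectrum.zeroLocus (P.asIdeal : Set Γ(X, W)) ∈
      irreducibleComponents (PrimeSpectrum Γ(X, W)) := by
    rw [← PrimeSpectrum.zeroLocus_minimalPrimes]
    exact ⟨P.asIdeal, hP, rfl⟩
  obtain ⟨o, ho, hne, hoZ⟩ :=
    TopologicalSpace.NoetherianSpace.exists_isOpen_nonempty_subset_irreducibleComponent _ hZ
  have hd : Dense (hW.fromSpec ⁻¹' (U : Set X)) :=
    hU.preimage hW.fromSpec.isOpenEmbedding.isOpenMap
  obtain ⟨z, hzo, hzU⟩ := hd.inter_open_nonempty o ho hne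
  have hzP : P ⤳ z := by
    rw [← PrimeSpectrum.le_iff_specializes]
    have h1 := hoZ hzo
    rw [PrimeSpectrum.mem_zeroLocus] at h1
    exact fun a ha => h1 ha
  exact hzP.mem_open (U.isOpen.preimage hW.fromSpec.continuous) hzU

/-- a section of a torsion-free quasi-coherent module on a reduced locally Noetherian scheme whose
germs vanish at the points of a dense open is zero. -/
theorem section_eq_zero_of_dense [IsLocallyNoetherian X] [AlgebraicGeometry.IsReduced X]
    (F : X.Modules) [F.IsQuasicoherent] (htF : TorSh.IsTorsionFree F)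
    (U : X.Opens) (hU : Dense (U : Set X)) (V : X.Opens) (s : Γ(F, V))
    (hs : ∀ (y : X) (hyV : y ∈ V), y ∈ U → F.presheaf.germ V y hyV s = 0) : s = 0 := by
  by_contra hs0
  have hex : ∃ y, ∃ hy : y ∈ V, F.presheaf.germ V y hy s ≠ 0 := by
    by_contra hcon
    push_neg at hcon
    exact hs0 (section_eq_zero_of_germ F s hcon)
  obtain ⟨y, hyV, hy⟩ := hex
  obtain ⟨W, hW, hyW, hWV⟩ := exists_isAffineOpen_mem_and_subset (x := y) (U := V) hyV
  have hWV' : W ≤ V := hWV
  obtain ⟨m, hm⟩ : ∃ m, m = F.presheaf.map (homOfLE hWV').op s := ⟨_, rfl⟩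
  have hm0 : m ≠ 0 := by
    intro h0
    apply hy
    rw [← germ_res F y hWV' hyW s, ← hm, h0, map_zero]
  haveI : IsNoetherianRing Γ(X, W) := IsLocallyNoetherian.component_noetherian ⟨W, hW⟩
  have H : ∀ a ∈ nonZeroDivisors Γ(X, W), a • m = 0 → m = 0 := by
    intro a ha ham
    apply section_eq_zero_of_germ
    intro z hz
    have h1 := Groth.Agent.H7.RelCart.germ_mem_nonZeroDivisors hW z hz a ha
    have h2 : X.presheaf.germ W z hz a • F.presheaf.germ W z hz m = 0 := by
      rw [← germ_smul, ham, map_zero]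
    have h3 := (htF z).isSMulRegular (isRegular_iff_mem_nonZeroDivisors.mpr h1)
    apply h3
    change X.presheaf.germ W z hz a • F.presheaf.germ W z hz m = X.presheaf.germ W z hz a • 0
    rw [smul_zero]
    exact h2
  obtain ⟨p, hp, hann⟩ := Groth.Agent.H7.TorFreeGerm.exists_minimalPrime_of_ne_zero m hm0 H
  haveI hpp : p.IsPrime := hp.1.1
  obtain ⟨P, hPdef⟩ : ∃ P : PrimeSpectrum Γ(X, W), P = ⟨p, hpp⟩ := ⟨_, rfl⟩
  have hPp : P.asIdeal = p := by rw [hPdef]
  have hηW := fromSpec_mem hW P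
  have hgη : F.presheaf.germ W _ hηW m ≠ 0 := by
    intro h0
    letI := stalkΓModule F (hW.fromSpec P) W hηW
    haveI := isLocalizedModule_germ F hW (hW.fromSpec P) hηW
    have h1 : germLinear F (hW.fromSpec P) W hηW m = 0 := h0
    rw [IsLocalizedModule.eq_zero_iff
      (hW.primeIdealOf ⟨hW.fromSpec P, hηW⟩).asIdeal.primeCompl] at h1
    obtain ⟨⟨t, htmem⟩, ht⟩ := h1
    have ht' : t • m = 0 := ht
    have h2 : t ∉ (hW.primeIdealOf ⟨hW.fromSpec P, hηW⟩).asIdeal := htmem
    rw [primeIdealOf_fromSpec hW P hηW] at h2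
    apply h2
    rw [hPp]
    exact hann t ht'
  apply hgη
  rw [hm, germ_res F _ hWV' hηW s]
  exact hs _ (hWV' hηW) (fromSpec_mem_of_dense hW P (by rw [hPp]; exact hp) U hU)

/-- a morphism into a torsion-free quasi-coherent module on a reduced locally Noetherian scheme
which vanishes over a dense open is zero. -/
theorem hom_eq_zero_of_dense [IsLocallyNoetherian X] [AlgebraicGeometry.IsReduced X]
    {K F : X.Modules} [F.IsQuasicoherent] (htF : TorSh.IsTorsionFree F)
    (U : X.Opens) (hU : Dense (U : Set X)) (g : K ⟶ F)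
    (hg : (Scheme.Modules.restrictFunctor U.ι).map g = 0) : g = 0 := by
  apply Scheme.Modules.hom_ext
  intro V
  ext s
  change g.app V s = 0
  apply section_eq_zero_of_dense F htF U hU V
  intro y hyV hyU
  have hV' : U.ι ''ᵁ (U.ι ⁻¹ᵁ V) ≤ V := U.ι.image_preimage_le V
  have hy' : y ∈ U.ι ''ᵁ (U.ι ⁻¹ᵁ V) := by
    rw [Scheme.Hom.image_preimage_eq_opensRange_inf, Scheme.Opens.opensRange_ι]
    exact ⟨hyU, hyV⟩
  rw [← germ_res F y hV' hy' (g.app V s), ← app_res g hV' s]
  have h0 : g.app (U.ι ''ᵁ (U.ι ⁻¹ᵁ V)) = 0 := congr(($hg).app (U.ι ⁻¹ᵁ V))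
  have h1 : g.app (U.ι ''ᵁ (U.ι ⁻¹ᵁ V)) (K.presheaf.map (homOfLE hV').op s) = 0 := by
    rw [h0]; rfl
  rw [h1, map_zero]

/-- **S18914**: two torsion-free quasi-coherent quotients of a module on a reduced locally
Noetherian scheme which are identified over a dense open are identified globally. -/
theorem main [IsLocallyNoetherian X] [AlgebraicGeometry.IsReduced X]
    (E F₁ F₂ : X.Modules) [F₁.IsQuasicoherent] [F₂.IsQuasicoherent]
    (ht₁ : TorSh.IsTorsionFree F₁) (ht₂ : TorSh.IsTorsionFree F₂)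
    (q₁ : E ⟶ F₁) (q₂ : E ⟶ F₂) [Epi q₁] [Epi q₂]
    (U : X.Opens) (hU : Dense (U : Set X))
    (φ : F₁.restrict U.ι ≅ F₂.restrict U.ι)
    (hφ : (Scheme.Modules.restrictFunctor U.ι).map q₁ ≫ φ.hom =
      (Scheme.Modules.restrictFunctor U.ι).map q₂) :
    ∃ ψ : F₁ ≅ F₂, q₁ ≫ ψ.hom = q₂ ∧
      (Scheme.Modules.restrictFunctor U.ι).map ψ.hom = φ.hom := by
  have hφ' : (Scheme.Modules.restrictFunctor U.ι).map q₂ ≫ φ.inv =
      (Scheme.Modules.restrictFunctor U.ι).map q₁ := by
    rw [← hφ, Category.assoc, Iso.hom_inv_id, Category.comp_id]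
  have h12 : kernel.ι q₁ ≫ q₂ = 0 := by
    apply hom_eq_zero_of_dense ht₂ U hU
    rw [Functor.map_comp, ← hφ, ← Category.assoc, ← Functor.map_comp, kernel.condition,
      Functor.map_zero, zero_comp]
  have h21 : kernel.ι q₂ ≫ q₁ = 0 := by
    apply hom_eq_zero_of_dense ht₁ U hU
    rw [Functor.map_comp, ← hφ', ← Category.assoc, ← Functor.map_comp, kernel.condition,
      Functor.map_zero, zero_comp]
  let S₁ : ShortComplex X.Modules := ShortComplex.mk (kernel.ι q₁) q₁ (kernel.condition q₁)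
  let S₂ : ShortComplex X.Modules := ShortComplex.mk (kernel.ι q₂) q₂ (kernel.condition q₂)
  have hS₁ : S₁.Exact := ShortComplex.exact_of_f_is_kernel _ (kernelIsKernel q₁)
  have hS₂ : S₂.Exact := ShortComplex.exact_of_f_is_kernel _ (kernelIsKernel q₂)
  haveI : Epi S₁.g := (inferInstance : Epi q₁)
  haveI : Epi S₂.g := (inferInstance : Epi q₂)
  obtain ⟨a, ha⟩ : ∃ a : F₁ ⟶ F₂, q₁ ≫ a = q₂ := ⟨hS₁.desc q₂ h12, hS₁.g_desc q₂ h12⟩
  obtain ⟨b, hb⟩ : ∃ b : F₂ ⟶ F₁, q₂ ≫ b = q₁ := ⟨hS₂.desc q₁ h21, hS₂.g_desc q₁ h21⟩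
  have hab : a ≫ b = 𝟙 F₁ := by
    rw [← cancel_epi q₁, ← Category.assoc, ha, hb, Category.comp_id]
  have hba : b ≫ a = 𝟙 F₂ := by
    rw [← cancel_epi q₂, ← Category.assoc, hb, ha, Category.comp_id]
  have hres : (Scheme.Modules.restrictFunctor U.ι).map a = φ.hom := by
    haveI : Epi ((Scheme.Modules.restrictFunctor U.ι).map q₁) := inferInstance
    rw [← cancel_epi ((Scheme.Modules.restrictFunctor U.ι).map q₁), ← Functor.map_comp, ha, hφ]
  exact ⟨⟨a, b, hab, hba⟩, ha, hres⟩

end Groth.Agent.LD.TFDense
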