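import Groth.Agent.Lib.Lead.DF.IdealCoprod
import Groth.Agent.Lib.Lead.DF.GenFree
import Groth.Agent.Lib.Lead.DF.ZProp
import Groth.Agent.Lib.Lead.QC.PushFin
import Groth.Agent.Lib.Lead.QC.FreeHom
import Groth.Agent.Lib.Lead.QC.UnitIso
import Groth.Agent.Lib.Lead.QC.AmpleIso
import Groth.Agent.Lib.Lead.QC.TensorPow
import Groth.Agent.Lib.Lead.QC.LocFree
import Groth.Agent.Lib.Lead.QC.SubExtRestrict
import Groth.Agent.Lib.Helper5.Lim.ModuleExactFlat

/-! # A generically free direct image under a finite surjective morphism (S10948)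

For `f : X ⟶ Y` finite surjective between integral Noetherian schemes, `f_* O_X` is free of rank
`n ≥ 1` over a dense open `V`.  The basis sections live in `Γ(f⁻¹V, O_X)`; the coherent submodule
`M ⊆ j_* O_{f⁻¹V}` they generate receives a morphism `O_Y^n ⟶ f_* M` which is an isomorphism
over `V`. -/

set_option autoImplicit false
universe u
open CategoryTheory Limits Opposite AlgebraicGeometry TopologicalSpace

namespace Groth.Agent.LD.GenIsoPush
open Groth.Agent.LD.QC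

section Stalk

/-- a morphism of presheaves of abelian groups which is bijective on all opens contained in a
neighbourhood of `x` induces an isomorphism on the stalks at `x`. -/
theorem isIso_stalk_of_bijective_le {T : TopCat.{u}} {F G : TopCat.Presheaf AddCommGrpCat.{u} T}
    (φ : F ⟶ G) (x : T) (V : Opens T) (hx : x ∈ V)
    (h : ∀ W : Opens T, W ≤ V → Function.Bijective (φ.app (op W))) :
    IsIso ((TopCat.Presheaf.stalkFunctor AddCommGrpCat.{u} x).map φ) := by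
  rw [ConcreteCategory.isIso_iff_bijective]
  constructor
  · intro s t hst
    obtain ⟨U₁, hU₁, hxU₁, s, rfl⟩ := F.exists_le_germ_eq s hx
    obtain ⟨U₂, hU₂, hxU₂, t, rfl⟩ := F.exists_le_germ_eq t hx
    rw [TopCat.Presheaf.stalkFunctor_map_germ_apply,
      TopCat.Presheaf.stalkFunctor_map_germ_apply] at hst
    obtain ⟨W, hxW, iWU₁, iWU₂, heq⟩ := G.germ_eq x hxU₁ hxU₂ _ _ hst
    rw [← ConcreteCategory.comp_apply, ← ConcreteCategory.comp_apply, ← φ.naturality,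
      ← φ.naturality, ConcreteCategory.comp_apply, ConcreteCategory.comp_apply] at heq
    replace heq := (h W (iWU₁.le.trans hU₁)).1 heq
    have e1 := F.germ_res_apply iWU₁ x hxW s
    have e2 := F.germ_res_apply iWU₂ x hxW t
    rw [heq] at e1
    exact e1.symm.trans e2
  · intro t
    obtain ⟨U, hU, hxU, t, rfl⟩ := G.exists_le_germ_eq t hx
    obtain ⟨s, rfl⟩ := (h U hU).2 t
    exact ⟨F.germ U x hxU s, TopCat.Presheaf.stalkFunctor_map_germ_apply U x hxU φ s⟩

end Stalk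

section Aux
variable {X Y : Scheme.{u}}

lemma subsingleton_sections_of_isZero {M : X.Modules} (h : IsZero M) (U : X.Opens) :
    Subsingleton Γ(M, U) := by
  refine ⟨fun s t => ?_⟩
  have h1 : (𝟙 M : M ⟶ M) = 0 := h.eq_of_src _ _
  have hs : ∀ s : Γ(M, U), s = 0 := fun s => by
    have h2 : (𝟙 M : M ⟶ M).app U s = (0 : M ⟶ M).app U s := by rw [h1]
    exact h2
  rw [hs s, hs t]

lemma appIso_inv_app_apply {Z : Scheme.{u}} (j : Z ⟶ Y) [IsOpenImmersion j] (W : Y.Opens)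
    (r : Γ(Y, W)) :
    (j.appIso (j ⁻¹ᵁ W)).inv.hom (j.app W r) =
      Y.presheaf.map (homOfLE (j.image_preimage_le W)).op r :=
  congr($(j.app_appIso_inv W) r)

lemma app_res_scheme (f : X ⟶ Y) {U U' : Y.Opens} (h : U' ≤ U) (r : Γ(Y, U)) :
    f.app U' (Y.presheaf.map (homOfLE h).op r) =
      X.presheaf.map (homOfLE (show f ⁻¹ᵁ U' ≤ f ⁻¹ᵁ U from fun _ hx => h hx)).op (f.app U r) :=
  congr($(f.naturality (homOfLE h).op) r)

lemma ring_res_res {U1 U2 U3 : X.Opens} (h1 : U2 ≤ U1) (h2 : U3 ≤ U2) (s : Γ(X, U1)) :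
    X.presheaf.map (homOfLE h2).op (X.presheaf.map (homOfLE h1).op s) =
      X.presheaf.map (homOfLE (h2.trans h1)).op s := by
  rw [← ConcreteCategory.comp_apply, ← Functor.map_comp]
  rfl

lemma restrict_smul' {Z : Scheme.{u}} (j : Z ⟶ Y) [IsOpenImmersion j] (M : Y.Modules)
    (U : Z.Opens) (r : Γ(Z, U)) (s : Γ(M.restrict j, U)) :
    r • s = (show Γ(M.restrict j, U) from
      ((j.appIso U).inv.hom r) • (show Γ(M, j ''ᵁ U) from s)) := rfl

end Aux

section Main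
variable {X Y : Scheme.{u}} (f : X ⟶ Y) (V : Y.Opens)

/-- `f_* O_X`. -/
noncomputable abbrev pushUnit : Y.Modules := (Scheme.Modules.pushforward f).obj (unitMod X)

/-- `j_* j^* f_* O_X` for `j : V ⟶ Y`. -/
noncomputable abbrev RB : Y.Modules :=
  (Scheme.Modules.pushforward V.ι).obj ((pushUnit f).restrict V.ι)

/-- `j'_* j'^* O_X` for `j' : f⁻¹V ⟶ X`. -/
noncomputable abbrev Qm : X.Modules :=
  (Scheme.Modules.pushforward (f ⁻¹ᵁ V).ι).obj ((unitMod X).restrict (f ⁻¹ᵁ V).ι)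

/-- the first description of `f⁻¹(V ∩ W)`. -/
abbrev O1 (W : Y.Opens) : X.Opens := f ⁻¹ᵁ (V.ι ''ᵁ (V.ι ⁻¹ᵁ W))

/-- the second description of `f⁻¹(V ∩ W)`. -/
abbrev O2 (W : Y.Opens) : X.Opens := (f ⁻¹ᵁ V).ι ''ᵁ ((f ⁻¹ᵁ V).ι ⁻¹ᵁ (f ⁻¹ᵁ W))

lemma O2_le_O1 (W : Y.Opens) : O2 f V W ≤ O1 f V W := by
  rintro _ ⟨z, hz, rfl⟩
  exact ⟨⟨f ((f ⁻¹ᵁ V).ι z), z.2⟩, hz, rfl⟩

lemma O1_le_O2 (W : Y.Opens) : O1 f V W ≤ O2 f V W := by
  rintro x ⟨y, hy, hyx⟩
  have hxV : x ∈ f ⁻¹ᵁ V := by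
    change f x ∈ V
    rw [← hyx]
    exact y.2
  refine ⟨⟨x, hxV⟩, ?_, rfl⟩
  change f x ∈ W
  rw [← hyx]
  exact hy

lemma le_image_preimage (W : Y.Opens) (hW : W ≤ V) : W ≤ V.ι ''ᵁ (V.ι ⁻¹ᵁ W) :=
  fun y hy => ⟨⟨y, hW hy⟩, hy, rfl⟩

lemma smul_RB (W : Y.Opens) (r : Γ(Y, W)) (m : Γ(RB f V, W)) :
    r • m = (show Γ(RB f V, W) from
      (f.app (V.ι ''ᵁ (V.ι ⁻¹ᵁ W)) ((V.ι.appIso (V.ι ⁻¹ᵁ W)).inv.hom (V.ι.app W r))) •
        (show Γ(unitMod X, O1 f V W) from m)) := rfl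

lemma smul_fQ (W : Y.Opens) (r : Γ(Y, W))
    (m : Γ((Scheme.Modules.pushforward f).obj (Qm f V), W)) :
    r • m = (show Γ((Scheme.Modules.pushforward f).obj (Qm f V), W) from
      (((f ⁻¹ᵁ V).ι.appIso ((f ⁻¹ᵁ V).ι ⁻¹ᵁ (f ⁻¹ᵁ W))).inv.hom
        ((f ⁻¹ᵁ V).ι.app (f ⁻¹ᵁ W) (f.app W r))) •
        (show Γ(unitMod X, O2 f V W) from m)) := rfl

lemma ring_id (W : Y.Opens) (r : Γ(Y, W)) :
    X.presheaf.map (homOfLE (O2_le_O1 f V W)).op
      (f.app (V.ι ''ᵁ (V.ι ⁻¹ᵁ W)) ((V.ι.appIso (V.ι ⁻¹ᵁ W)).inv.hom (V.ι.app W r))) =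
    ((f ⁻¹ᵁ V).ι.appIso ((f ⁻¹ᵁ V).ι ⁻¹ᵁ (f ⁻¹ᵁ W))).inv.hom
        ((f ⁻¹ᵁ V).ι.app (f ⁻¹ᵁ W) (f.app W r)) := by
  rw [appIso_inv_app_apply V.ι W r, appIso_inv_app_apply (f ⁻¹ᵁ V).ι (f ⁻¹ᵁ W) (f.app W r),
    app_res_scheme f (V.ι.image_preimage_le W) r, ring_res_res]

/-- the comparison `j_* j^* f_* O_X ⟶ f_* j'_* j'^* O_X` on abelian presheaves. -/
noncomputable def thetaPre :
    (RB f V).presheaf ⟶ ((Scheme.Modules.pushforward f).obj (Qm f V)).presheaf where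
  app W := (unitMod X).presheaf.map (homOfLE (O2_le_O1 f V W.unop)).op
  naturality W W' i := by
    change (unitMod X).presheaf.map _ ≫ (unitMod X).presheaf.map _ =
      (unitMod X).presheaf.map _ ≫ (unitMod X).presheaf.map _
    rw [← Functor.map_comp, ← Functor.map_comp]
    rfl

lemma theta_linear (W : Y.Opens) (r : Γ(Y, W)) (m : Γ(RB f V, W)) :
    ((thetaPre f V).app (op W)) (r • m) = r • ((thetaPre f V).app (op W)) m := by
  have h1 := smul_RB f V W r m
  have h2 := smul_fQ f V W r ((thetaPre f V).app (op W) m)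
  have h3 := Scheme.Modules.map_smul (unitMod X) (homOfLE (O2_le_O1 f V W))
    (f.app (V.ι ''ᵁ (V.ι ⁻¹ᵁ W)) ((V.ι.appIso (V.ι ⁻¹ᵁ W)).inv.hom (V.ι.app W r)))
    (show Γ(unitMod X, O1 f V W) from m)
  rw [ring_id f V W r] at h3
  rw [h1, h2]
  exact h3

/-- the comparison `j_* j^* f_* O_X ⟶ f_* j'_* j'^* O_X`. -/
noncomputable def theta : RB f V ⟶ (Scheme.Modules.pushforward f).obj (Qm f V) :=
  ⟨PresheafOfModules.homMk (thetaPre f V) (by
    rintro ⟨W⟩ r m
    exact theta_linear f V W r m)⟩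

lemma theta_app (W : Y.Opens) (m : Γ(RB f V, W)) :
    (theta f V).app W m = (unitMod X).presheaf.map (homOfLE (O2_le_O1 f V W)).op m := rfl

lemma theta_bijective (W : Y.Opens) : Function.Bijective ((theta f V).app W) := by
  have h := res_bijective_of_eq (unitMod X) (O2_le_O1 f V W) (O1_le_O2 f V W)
  refine ⟨fun a b hab => h.1 hab, fun y => ?_⟩
  obtain ⟨a, ha⟩ := h.2 y
  exact ⟨a, ha⟩

variable {n : ℕ} (e : (FlatMod.freeMod Y n).restrict V.ι ≅ (pushUnit f).restrict V.ι)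

/-- the adjoint of the trivialization. -/
noncomputable def etilde : FlatMod.freeMod Y n ⟶ RB f V :=
  (Scheme.Modules.restrictAdjunction V.ι).unit.app (FlatMod.freeMod Y n) ≫
    (Scheme.Modules.pushforward V.ι).map e.hom

lemma etilde_app (W : Y.Opens) (g : Γ(FlatMod.freeMod Y n, W)) :
    (etilde f V e).app W g = e.hom.app (V.ι ⁻¹ᵁ W)
      ((FlatMod.freeMod Y n).presheaf.map (homOfLE (V.ι.image_preimage_le W)).op g) := rfl

lemma etilde_bijective (W : Y.Opens) (hW : W ≤ V) :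
    Function.Bijective ((etilde f V e).app W) := by
  have h1 := res_bijective_of_eq (FlatMod.freeMod Y n) (V.ι.image_preimage_le W)
    (le_image_preimage V W hW)
  have h2 : Function.Bijective (e.hom.app (V.ι ⁻¹ᵁ W)) :=
    (ConcreteCategory.isIso_iff_bijective _).1 inferInstance
  refine ⟨fun a b hab => ?_, fun z => ?_⟩
  · rw [etilde_app, etilde_app] at hab
    exact h1.1 (h2.1 hab)
  · obtain ⟨t, ht⟩ := h2.2 z
    obtain ⟨a, ha⟩ := h1.2 t
    refine ⟨a, ?_⟩
    rw [etilde_app, ha, ht]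

/-- the morphism `O_Y^n ⟶ f_* j'_* O_{f⁻¹V}`. -/
noncomputable def beta : FlatMod.freeMod Y n ⟶ (Scheme.Modules.pushforward f).obj (Qm f V) :=
  etilde f V e ≫ theta f V

lemma beta_bijective (W : Y.Opens) (hW : W ≤ V) :
    Function.Bijective ((beta f V e).app W) := by
  have h1 := etilde_bijective f V e W hW
  have h2 := theta_bijective f V W
  refine ⟨fun a b hab => ?_, fun z => ?_⟩
  · have hab' : (theta f V).app W ((etilde f V e).app W a) =
        (theta f V).app W ((etilde f V e).app W b) := hab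
    exact h1.1 (h2.1 hab')
  · obtain ⟨t, ht⟩ := h2.2 z
    obtain ⟨a, ha⟩ := h1.2 t
    refine ⟨a, ?_⟩
    change (theta f V).app W ((etilde f V e).app W a) = z
    rw [ha, ht]

lemma top_le_preimage_top : (⊤ : X.Opens) ≤ f ⁻¹ᵁ ⊤ := fun _ _ => trivial

/-- the global sections of `j'_* O_{f⁻¹V}` generating `M`. -/
noncomputable def qsec0 (j : Fin n) : Γ((Scheme.Modules.pushforward f).obj (Qm f V), ⊤) :=
  sectionsOfHom (beta f V e) j

/-- the global sections of `j'_* O_{f⁻¹V}` generating `M`, over `⊤`. -/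
noncomputable def qsec (j : Fin n) : Γ(Qm f V, ⊤) :=
  (Qm f V).presheaf.map (homOfLE (top_le_preimage_top f)).op (qsec0 f V e j)

/-- the morphism `O_X^n ⟶ j'_* O_{f⁻¹V}`. -/
noncomputable def aHom : FlatMod.freeMod X n ⟶ Qm f V := homOfSections (Qm f V) (qsec f V e)

/-- the coherent submodule of `j'_* O_{f⁻¹V}` generated by the basis sections. -/
noncomputable def Mmod : X.Modules := Limits.image (aHom f V e)

/-- `O_X^n ⟶ M`. -/
noncomputable def piHom : FlatMod.freeMod X n ⟶ Mmod f V e := factorThruImage (aHom f V e)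

/-- `M ⟶ j'_* O_{f⁻¹V}`. -/
noncomputable def iotaHom : Mmod f V e ⟶ Qm f V := Limits.image.ι (aHom f V e)

instance : Mono (iotaHom f V e) :=
  inferInstanceAs (Mono (Limits.image.ι (aHom f V e)))

lemma pi_iota : piHom f V e ≫ iotaHom f V e = aHom f V e := Limits.image.fac _

/-- the global sections of `f_* M`. -/
noncomputable def tsec (j : Fin n) : Γ((Scheme.Modules.pushforward f).obj (Mmod f V e), ⊤) :=
  (Mmod f V e).presheaf.map (homOfLE (le_top : f ⁻¹ᵁ ⊤ ≤ ⊤)).op (sectionsOfHom (piHom f V e) j)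

/-- the morphism `O_Y^n ⟶ f_* M`. -/
noncomputable def alpha :
    FlatMod.freeMod Y n ⟶ (Scheme.Modules.pushforward f).obj (Mmod f V e) :=
  homOfSections _ (tsec f V e)

lemma alpha_comp :
    alpha f V e ≫ (Scheme.Modules.pushforward f).map (iotaHom f V e) = beta f V e := by
  apply hom_ext_sections
  funext j
  have h0 : sectionsOfHom (alpha f V e ≫ (Scheme.Modules.pushforward f).map (iotaHom f V e)) j =
      ((Scheme.Modules.pushforward f).map (iotaHom f V e)).app ⊤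
        (sectionsOfHom (alpha f V e) j) :=
    congrFun (sectionsOfHom_comp _ _) j
  have h1 : sectionsOfHom (alpha f V e) j = tsec f V e j :=
    congrFun (sectionsOfHom_homOfSections _ (tsec f V e)) j
  have h2 : (iotaHom f V e).app ⊤ (sectionsOfHom (piHom f V e) j) = qsec f V e j := by
    have h3 := congrFun (sectionsOfHom_comp (piHom f V e) (iotaHom f V e)) j
    rw [pi_iota] at h3
    have h4 : sectionsOfHom (aHom f V e) j = qsec f V e j :=
      congrFun (sectionsOfHom_homOfSections _ (qsec f V e)) j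
    exact h3.symm.trans h4
  have h5 : ((Scheme.Modules.pushforward f).map (iotaHom f V e)).app ⊤ (tsec f V e j) =
      (Qm f V).presheaf.map (homOfLE (le_top : f ⁻¹ᵁ ⊤ ≤ ⊤)).op
        ((iotaHom f V e).app ⊤ (sectionsOfHom (piHom f V e) j)) :=
    app_res (iotaHom f V e) (le_top : f ⁻¹ᵁ ⊤ ≤ ⊤) (sectionsOfHom (piHom f V e) j)
  rw [h0, h1, h5, h2, qsec, res_res]
  exact res_self (Qm f V) _ (qsec0 f V e j)

lemma alpha_bijective (W : Y.Opens) (hW : W ≤ V) :
    Function.Bijective ((alpha f V e).app W) := by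
  have hβ := beta_bijective f V e W hW
  have hι : Function.Injective ((iotaHom f V e).app (f ⁻¹ᵁ W)) := mono_app _ _
  have hc : ∀ g, (iotaHom f V e).app (f ⁻¹ᵁ W) ((alpha f V e).app W g) =
      (beta f V e).app W g := by
    intro g
    rw [← alpha_comp f V e]
    rfl
  refine ⟨fun a b hab => hβ.1 ?_, fun m => ?_⟩
  · rw [← hc a, ← hc b, hab]
  · obtain ⟨g, hg⟩ := hβ.2 ((iotaHom f V e).app (f ⁻¹ᵁ W) m)
    exact ⟨g, hι ((hc g).trans hg)⟩

lemma isCoh_Mmod [IsNoetherian X] : Coh.IsCoh (Mmod f V e) := by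
  haveI : (unitMod X).IsQuasicoherent := qc_of_isInvertible _ (isInvertible_unit X)
  haveI : ((unitMod X).restrict (f ⁻¹ᵁ V).ι).IsQuasicoherent := qc_restrict _ _
  have hQ : (Qm f V).IsQuasicoherent := qc_pushforward (f ⁻¹ᵁ V).ι _
  have hF := DF.isCoh_freeMod X n
  exact ⟨Groth.Agent.H5.Lim.qc_image _ hF.1 hQ,
    Groth.Agent.H5.Lim.isFiniteType_image _ hF.1 hQ hF.2⟩

end Main

/-- **S10948**. -/
theorem main {X Y : Scheme.{u}} [IsIntegral X] [IsNoetherian X] [IsIntegral Y] [IsNoetherian Y]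
    (f : X ⟶ Y) [IsFinite f] [Surjective f] :
    ∃ (r : ℕ) (M : X.Modules) (α : (SheafOfModules.free (ULift.{u} (Fin r)) : Y.Modules) ⟶
        (Scheme.Modules.pushforward f).obj M),
      0 < r ∧ Coh.IsCoh M ∧
      IsIso ((TopCat.Presheaf.stalkFunctor AddCommGrpCat.{u} (genericPoint ↥Y)).map
        ((SheafOfModules.toSheaf Y.ringCatSheaf).map α).hom) := by
  haveI hU : (unitMod X).IsQuasicoherent := qc_of_isInvertible _ (isInvertible_unit X)
  have hB : Coh.IsCoh (pushUnit f) :=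
    ⟨qc_pushforward f (unitMod X), isFiniteType_pushforward_of_isFinite f (unitMod X)
      (isFiniteType_of_isInvertible _ (isInvertible_unit X))⟩
  obtain ⟨V, n, hηV, ⟨e⟩⟩ := DF.exists_restrict_iso_freeMod' (pushUnit f) hB
  have hn : 0 < n := by
    rcases Nat.eq_zero_or_pos n with h0 | h0
    · exfalso
      subst h0
      haveI hs : Subsingleton Γ((FlatMod.freeMod Y 0).restrict V.ι, ⊤) :=
        subsingleton_sections_of_isZero (DF.isZero_freeMod_zero Y) (V.ι ''ᵁ ⊤)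
      have hinj : Function.Injective (e.inv.app ⊤) :=
        ((ConcreteCategory.isIso_iff_bijective (e.inv.app ⊤)).1 inferInstance).1
      obtain ⟨x, hx⟩ := f.surjective (genericPoint Y)
      haveI : Nonempty ↥(f ⁻¹ᵁ (V.ι ''ᵁ ⊤)) :=
        ⟨⟨x, ⟨⟨genericPoint Y, hηV⟩, trivial, hx.symm⟩⟩⟩
      have key : ((1 : Γ(X, f ⁻¹ᵁ (V.ι ''ᵁ ⊤))) : Γ((pushUnit f).restrict V.ι, ⊤)) =
          (0 : Γ(X, f ⁻¹ᵁ (V.ι ''ᵁ ⊤))) := hinj (Subsingleton.elim _ _)
      exact one_ne_zero key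
    · exact h0
  refine ⟨n, Mmod f V e, (freeModIso Y n).inv ≫ alpha f V e, hn, isCoh_Mmod f V e, ?_⟩
  apply isIso_stalk_of_bijective_le _ (genericPoint Y) V hηV
  intro W hW
  have h1 := alpha_bijective f V e W hW
  have h2 : Function.Bijective ((freeModIso Y n).inv.app W) :=
    (ConcreteCategory.isIso_iff_bijective _).1 inferInstance
  refine ⟨fun a b hab => ?_, fun z => ?_⟩
  · have hab' : (alpha f V e).app W ((freeModIso Y n).inv.app W a) =
        (alpha f V e).app W ((freeModIso Y n).inv.app W b) := hab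
    exact h2.1 (h1.1 hab')
  · obtain ⟨t, ht⟩ := h1.2 z
    obtain ⟨a, ha⟩ := h2.2 t
    refine ⟨a, ?_⟩
    change (alpha f V e).app W ((freeModIso Y n).inv.app W a) = z
    rw [ha, ht]

end Groth.Agent.LD.GenIsoPush
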