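import Mathlib
import Groth.Agent.Lib.Helper2.DepthS1Sch
import Groth.Agent.Lib.Helper3.OmBasis
import Groth.Agent.Lib.Helper3.ZClosCover
import Groth.Agent.Lib.Lead.QC.InvBasis
import Groth.Agent.Lib.Lead.QC.QuotSupp
import Groth.Agent.Lib.Lead.QC.Iso
import Groth.Agent.Lib.Lead.QC.FinType
import Groth.Agent.Lib.Lead.QC.Affine

/-!
# Associated points and monomorphisms from `O_Z` (S4658)

`x` is an associated point of a quasi-coherent module `F` on a locally Noetherian scheme iff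
near `x` there is a monomorphism `O_Z ⟶ F`, `Z` the reduced closure of `x`.
-/

universe u
open CategoryTheory Limits AlgebraicGeometry TopologicalSpace Opposite

namespace Groth.Agent.LD.AssMono
open Groth.Agent.LD.QC

variable {X : Scheme.{u}}

section Desc

/-- if `k` kills the kernel of `π` on a basis, it kills the kernel of `π` on all opens. -/
theorem app_eq_zero_of_basis {Q G : X.Modules} (π : unitMod X ⟶ Q) (k : unitMod X ⟶ G)
    (B : Set X.Opens) (hB : Opens.IsBasis B)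
    (hker : ∀ V ∈ B, ∀ a : Γ(X, V), π.app V a = 0 → k.app V a = 0)
    (V : X.Opens) (a : Γ(unitMod X, V)) (ha : π.app V a = 0) : k.app V a = 0 := by
  apply section_eq_zero_of_germ G
  intro y hy
  obtain ⟨D, hDB, hyD, hDV⟩ := Opens.isBasis_iff_nbhd.mp hB hy
  have h1 : π.app D ((unitMod X).presheaf.map (homOfLE hDV).op a) = 0 := by
    rw [app_res π hDV a, ha]
    exact (Q.presheaf.map (homOfLE hDV).op).hom.map_zero
  have h2 := hker D hDB _ h1
  rw [app_res k hDV a] at h2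
  rw [← germ_res G y hDV hyD (k.app V a), h2]
  exact (G.presheaf.germ D y hyD).hom.map_zero

/-- descending a morphism out of the structure sheaf along a quotient, checked on a basis. -/
theorem exists_desc {Q G : X.Modules} (π : unitMod X ⟶ Q) (k : unitMod X ⟶ G)
    (B : Set X.Opens) (hB : Opens.IsBasis B)
    (hsurj : ∀ V ∈ B, Function.Surjective (π.app V))
    (hker : ∀ V ∈ B, ∀ a : Γ(X, V), π.app V a = 0 → k.app V a = 0) :
    ∃ φ : Q ⟶ G, π ≫ φ = k := by
  haveI : Epi π := Groth.Agent.H3.Om.epi_of_surjective_basis π B hB hsurj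
  have hS : (ShortComplex.mk (kernel.ι π) π (kernel.condition π)).Exact :=
    ShortComplex.exact_of_f_is_kernel _ (kernelIsKernel π)
  have hk : kernel.ι π ≫ k = 0 := by
    apply Scheme.Modules.hom_ext
    intro V
    apply ConcreteCategory.hom_ext
    intro t
    have ha : π.app V ((kernel.ι π).app V t) = 0 := by
      have h1 : (kernel.ι π ≫ π).app V t = 0 := by rw [kernel.condition]; rfl
      exact h1
    exact app_eq_zero_of_basis π k B hB hker V _ ha
  exact hS.desc' k hk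

/-- the descended morphism is a monomorphism if `k` and `π` have the same kernel on a basis. -/
theorem mono_of_desc {Q G : X.Modules} (π : unitMod X ⟶ Q) (k : unitMod X ⟶ G) (φ : Q ⟶ G)
    (hφ : π ≫ φ = k) (B : Set X.Opens) (hB : Opens.IsBasis B)
    (hsurj : ∀ V ∈ B, Function.Surjective (π.app V))
    (hinj : ∀ V ∈ B, ∀ a : Γ(X, V), k.app V a = 0 → π.app V a = 0) : Mono φ := by
  apply Groth.Agent.H3.ZClosCover.mono_of_injective_basis φ B hB
  intro V hV q q' hqq'
  obtain ⟨a, rfl⟩ := hsurj V hV q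
  obtain ⟨a', rfl⟩ := hsurj V hV q'
  have e : ∀ c : Γ(unitMod X, V), φ.app V (π.app V c) = k.app V c := fun c => by subst hφ; rfl
  rw [e, e] at hqq'
  have h1 : k.app V (a - a') = 0 := by
    rw [(k.app V).hom.map_sub, hqq', sub_self]
  have h2 := hinj V hV (a - a') h1
  rw [(π.app V).hom.map_sub, sub_eq_zero] at h2
  exact h2

end Desc

section Loc

/-- the annihilator of `m|_{D(f)}` is the localization of the annihilator of `m`, in terms of an
ideal sheaf. -/
theorem smul_res_eq_zero_iff (I : X.IdealSheafData) (F : X.Modules) [F.IsQuasicoherent]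
    {W : X.Opens} (hW : IsAffineOpen W) (m : Γ(F, W))
    (hm : ∀ r : Γ(X, W), r • m = 0 ↔ r ∈ I.ideal ⟨W, hW⟩) (f : Γ(X, W))
    (a : Γ(X, X.basicOpen f)) :
    a • F.presheaf.map (homOfLE (X.basicOpen_le f)).op m = 0 ↔
      a ∈ I.ideal ⟨X.basicOpen f, hW.basicOpen f⟩ := by
  have hmap := I.map_ideal_basicOpen ⟨W, hW⟩ f
  have hu : IsUnit (X.presheaf.map (homOfLE (X.basicOpen_le f)).op f) :=
    RingedSpace.isUnit_res_basicOpen _ f
  constructor
  · intro ha
    haveI : IsLocalization.Away f Γ(X, X.basicOpen f) := hW.isLocalization_basicOpen f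
    obtain ⟨⟨r, s⟩, hrs⟩ := IsLocalization.surj (Submonoid.powers f) a
    obtain ⟨n, hn⟩ := s.2
    have hn' : f ^ n = (s : Γ(X, W)) := hn
    have hrs' : a * X.presheaf.map (homOfLE (X.basicOpen_le f)).op (f ^ n) =
        X.presheaf.map (homOfLE (X.basicOpen_le f)).op r := by
      rw [hn']; exact hrs
    have h1 : F.presheaf.map (homOfLE (X.basicOpen_le f)).op (r • m) = 0 := by
      rw [Scheme.Modules.map_smul, ← hrs', mul_comm, mul_smul, ha, smul_zero]
    obtain ⟨k, hk⟩ := affine_inj F hW f (r • m) h1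
    have h2 : f ^ k * r ∈ I.ideal ⟨W, hW⟩ := (hm _).mp (by rw [mul_smul]; exact hk)
    have h3 := Ideal.mem_map_of_mem (X.presheaf.map (homOfLE (X.basicOpen_le f)).op).hom h2
    rw [hmap] at h3
    have h4 : (X.presheaf.map (homOfLE (X.basicOpen_le f)).op).hom (f ^ k * r) =
        (X.presheaf.map (homOfLE (X.basicOpen_le f)).op f) ^ (k + n) * a := by
      show X.presheaf.map (homOfLE (X.basicOpen_le f)).op (f ^ k * r) = _
      rw [map_mul, ← hrs', map_pow, map_pow, pow_add]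
      ring
    rw [h4] at h3
    exact (Ideal.unit_mul_mem_iff_mem _ (hu.pow _)).mp h3
  · intro ha
    have ha' : a ∈ (I.ideal ⟨W, hW⟩).map (X.presheaf.map (homOfLE (X.basicOpen_le f)).op).hom := by
      rw [hmap]; exact ha
    refine Submodule.span_induction
      (p := fun c _ => c • F.presheaf.map (homOfLE (X.basicOpen_le f)).op m = 0) ?_ ?_ ?_ ?_ ha'
    · rintro _ ⟨b, hb, rfl⟩
      have hb0 : b • m = 0 := (hm b).mpr hb
      have := Scheme.Modules.map_smul (M := F) (homOfLE (X.basicOpen_le f)) b m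
      rw [hb0] at this
      exact this.symm.trans (F.presheaf.map (homOfLE (X.basicOpen_le f)).op).hom.map_zero
    · exact zero_smul _ _
    · intro c d _ _ hc hd
      rw [add_smul, hc, hd, add_zero]
    · intro c d _ hd
      rw [smul_eq_mul, mul_smul, hd, smul_zero]

/-- variant for an open which is only propositionally a basic open. -/
theorem smul_res_eq_zero_iff' (I : X.IdealSheafData) (F : X.Modules) [F.IsQuasicoherent]
    {W : X.Opens} (hW : IsAffineOpen W) (m : Γ(F, W))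
    (hm : ∀ r : Γ(X, W), r • m = 0 ↔ r ∈ I.ideal ⟨W, hW⟩) (f : Γ(X, W))
    (D : X.Opens) (hD : D = X.basicOpen f) (hDW : D ≤ W) (hDa : IsAffineOpen D) (a : Γ(X, D)) :
    a • F.presheaf.map (homOfLE hDW).op m = 0 ↔ a ∈ I.ideal ⟨D, hDa⟩ := by
  subst hD
  exact smul_res_eq_zero_iff I F hW m hm f a

/-- the ideal of the reduced closure of a point, on an affine open containing it. -/
theorem vanishingIdeal_closure_ideal (x : X) (U : X.affineOpens) (hxU : x ∈ U.1) :
    (Scheme.IdealSheafData.vanishingIdeal ⟨closure {x}, isClosed_closure⟩).ideal U =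
      (U.2.primeIdealOf ⟨x, hxU⟩).asIdeal := by
  rw [Scheme.IdealSheafData.vanishingIdeal_ideal]
  have : U.2.fromSpec ⁻¹' ((⟨closure {x}, isClosed_closure⟩ : Closeds X) : Set X) =
      closure {U.2.primeIdealOf ⟨x, hxU⟩} := by
    have hx : U.2.fromSpec (U.2.primeIdealOf ⟨x, hxU⟩) = x := U.2.fromSpec_primeIdealOf ⟨x, hxU⟩
    ext q
    have h2 := U.2.fromSpec.isOpenEmbedding.isInducing.specializes_iff
      (x := U.2.primeIdealOf ⟨x, hxU⟩) (y := q)
    rw [hx] at h2
    exact (specializes_iff_mem_closure.symm.trans h2).trans specializes_iff_mem_closure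
  exact (congrArg PrimeSpectrum.vanishingIdeal this).trans
    ((PrimeSpectrum.vanishingIdeal_closure _).trans (PrimeSpectrum.vanishingIdeal_singleton _))

end Loc

section Restr

/-- sections of the restriction as sections of `M`. -/
def ofR (M : X.Modules) (U : X.Opens) (V : U.toScheme.Opens) (s : Γ(M.restrict U.ι, V)) :
    Γ(M, U.ι ''ᵁ V) := s

/-- sections of `M` as sections of the restriction. -/
def toR (M : X.Modules) (U : X.Opens) (V : U.toScheme.Opens) (s : Γ(M, U.ι ''ᵁ V)) :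
    Γ(M.restrict U.ι, V) := s

theorem ofR_smul (M : X.Modules) (U : X.Opens) (V : U.toScheme.Opens) (b : Γ(U.toScheme, V))
    (s : Γ(M.restrict U.ι, V)) :
    ofR M U V (b • s) = ((U.ι.appIso V).inv b) • ofR M U V s := rfl

theorem appIso_inv_hom (U : X.Opens) (V : U.toScheme.Opens) (r : Γ(X, U.ι ''ᵁ V)) :
    (U.ι.appIso V).inv ((U.ι.appIso V).hom r) = r :=
  congr($((U.ι.appIso V).hom_inv_id) r)

theorem toR_smul (M : X.Modules) (U : X.Opens) (V : U.toScheme.Opens) (r : Γ(X, U.ι ''ᵁ V))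
    (s : Γ(M, U.ι ''ᵁ V)) :
    toR M U V (r • s) = ((U.ι.appIso V).hom r) • toR M U V s := by
  show r • s = ofR M U V (((U.ι.appIso V).hom r) • toR M U V s)
  rw [ofR_smul, appIso_inv_hom]
  rfl

/-- evaluation of the morphism attached to a section of a restriction. -/
theorem ofR_homOfSection_app (M : X.Modules) (U : X.Opens) (t : Γ(M.restrict U.ι, ⊤))
    (V : U.toScheme.Opens) (b : Γ(U.toScheme, V)) :
    ofR M U V ((homOfSection (M.restrict U.ι) t).app V b) =
      ((U.ι.appIso V).inv b) •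
        M.presheaf.map (homOfLE (U.ι.image_mono (le_top : V ≤ ⊤))).op (ofR M U ⊤ t) := by
  rw [unitHom_app, homOfSection_app_one, ofR_smul]
  rfl

end Restr

/-- the ideal sheaf of the reduced closure of `x`. -/
noncomputable abbrev Icl (x : X) : X.IdealSheafData :=
  Scheme.IdealSheafData.vanishingIdeal ⟨closure {x}, isClosed_closure⟩

section Main
variable [IsLocallyNoetherian X] (F : X.Modules) [F.IsQuasicoherent] (x : X)

theorem isAssPoint_of_mono (U : X.Opens) (hxU : x ∈ U)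
    (φ : (ClSub.quotMod (Icl x)).restrict U.ι ⟶ F.restrict U.ι) [Mono φ] :
    Curv2.IsAssPoint F x := by
  obtain ⟨V, hVaff, hxV, -⟩ := exists_isAffineOpen_mem_and_subset (X := U.toScheme)
    (x := (⟨x, hxU⟩ : U)) (U := ⊤) trivial
  have hW : IsAffineOpen (U.ι ''ᵁ V) := hVaff.image_of_isOpenImmersion U.ι
  have hxW : x ∈ U.ι ''ᵁ V := (Scheme.Opens.mem_ι_image_iff (x := (⟨x, hxU⟩ : U))).mpr hxV
  rw [Groth.Agent.H2.DepthS1.isAssPoint_iff F hW x hxW]
  haveI : IsNoetherianRing Γ(X, U.ι ''ᵁ V) := IsLocallyNoetherian.component_noetherian ⟨_, hW⟩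
  rw [isAssociatedPrime_iff]
  obtain ⟨one, hone⟩ : ∃ o : Γ(ClSub.quotMod (Icl x), U.ι ''ᵁ V),
      o = (ClSub.toSubscheme (Icl x)).app (U.ι ''ᵁ V) (1 : Γ(X, U.ι ''ᵁ V)) := ⟨_, rfl⟩
  have key : ∀ r : Γ(X, U.ι ''ᵁ V), r • ofR F U V (φ.app V (toR _ U V one)) =
      ofR F U V (φ.app V (toR _ U V ((ClSub.toSubscheme (Icl x)).app (U.ι ''ᵁ V) r))) := by
    intro r
    have h1 : toR _ U V ((ClSub.toSubscheme (Icl x)).app (U.ι ''ᵁ V) r) =
        ((U.ι.appIso V).hom r) • toR _ U V one := by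
      rw [← toR_smul, hone, toSubscheme_app_smul, mul_one]
    rw [h1, Scheme.Modules.Hom.app_smul, ofR_smul, appIso_inv_hom]
  refine ⟨(hW.primeIdealOf ⟨x, hxW⟩).isPrime, ofR F U V (φ.app V (toR _ U V one)), ?_⟩
  ext r
  rw [Submodule.mem_colon_singleton, Submodule.mem_bot, key,
    ← vanishingIdeal_closure_ideal x ⟨_, hW⟩ hxW,
    ← toSubscheme_app_eq_zero_iff (Icl x) ⟨_, hW⟩ r]
  constructor
  · intro h
    have h' : (ClSub.toSubscheme (Icl x)).app (U.ι ''ᵁ V) r = 0 := h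
    rw [h']
    exact (φ.app V).hom.map_zero
  · intro h
    exact mono_app φ V (h.trans (φ.app V).hom.map_zero.symm)

theorem exists_mono_of_isAssPoint (hx : Curv2.IsAssPoint F x) :
    ∃ (U : X.Opens), x ∈ U ∧
      ∃ φ : (ClSub.quotMod (Icl x)).restrict U.ι ⟶ F.restrict U.ι, Mono φ := by
  obtain ⟨W, hW, hxW, -⟩ := exists_isAffineOpen_mem_and_subset (x := x) (U := ⊤) trivial
  refine ⟨W, hxW, ?_⟩
  haveI : IsAffine W.toScheme := hW
  have hW₁ : IsAffineOpen (W.ι ''ᵁ ⊤) :=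
    (isAffineOpen_top W.toScheme).image_of_isOpenImmersion W.ι
  have hxW₁ : x ∈ W.ι ''ᵁ ⊤ := (Scheme.Opens.mem_ι_image_iff (x := (⟨x, hxW⟩ : W))).mpr trivial
  haveI : IsNoetherianRing Γ(X, W.ι ''ᵁ ⊤) := IsLocallyNoetherian.component_noetherian ⟨_, hW₁⟩
  obtain ⟨-, m₁, hm₁⟩ := isAssociatedPrime_iff.mp
    ((Groth.Agent.H2.DepthS1.isAssPoint_iff F hW₁ x hxW₁).mp hx)
  have hm : ∀ r : Γ(X, W.ι ''ᵁ ⊤), r • m₁ = 0 ↔ r ∈ (Icl x).ideal ⟨_, hW₁⟩ := by
    intro r
    rw [vanishingIdeal_closure_ideal x ⟨_, hW₁⟩ hxW₁, hm₁, Submodule.mem_colon_singleton,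
      Submodule.mem_bot]
  obtain ⟨one₁, hone⟩ : ∃ o : Γ(ClSub.quotMod (Icl x), W.ι ''ᵁ ⊤),
      o = (ClSub.toSubscheme (Icl x)).app (W.ι ''ᵁ ⊤) (1 : Γ(X, W.ι ''ᵁ ⊤)) := ⟨_, rfl⟩
  obtain ⟨π, hπdef⟩ : ∃ π : unitMod W.toScheme ⟶ (ClSub.quotMod (Icl x)).restrict W.ι,
      π = homOfSection _ (toR _ W ⊤ one₁) := ⟨_, rfl⟩
  obtain ⟨k, hkdef⟩ : ∃ k : unitMod W.toScheme ⟶ F.restrict W.ι,
      k = homOfSection _ (toR _ W ⊤ m₁) := ⟨_, rfl⟩
  -- evaluation of `π` and `k`
  have hπ : ∀ (V : W.toScheme.Opens) (b : Γ(W.toScheme, V)), ofR _ W V (π.app V b) =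
      (ClSub.toSubscheme (Icl x)).app (W.ι ''ᵁ V) ((W.ι.appIso V).inv b) := by
    intro V b
    subst hπdef
    have e0 := ofR_homOfSection_app (ClSub.quotMod (Icl x)) W (toR _ W ⊤ one₁) V b
    have e1 : (ClSub.quotMod (Icl x)).presheaf.map
        (homOfLE (W.ι.image_mono (le_top : V ≤ ⊤))).op one₁ =
        (ClSub.toSubscheme (Icl x)).app (W.ι ''ᵁ V) (1 : Γ(X, W.ι ''ᵁ V)) := by
      rw [hone, ← app_res]
      congr 1
      exact map_one (X.presheaf.map (homOfLE (W.ι.image_mono (le_top : V ≤ ⊤))).op).hom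
    have e2 : ((W.ι.appIso V).inv b) •
        (ClSub.toSubscheme (Icl x)).app (W.ι ''ᵁ V) (1 : Γ(X, W.ι ''ᵁ V)) =
        (ClSub.toSubscheme (Icl x)).app (W.ι ''ᵁ V) ((W.ι.appIso V).inv b) := by
      rw [toSubscheme_app_smul, mul_one]
    exact e0.trans ((congrArg (fun z => ((W.ι.appIso V).inv b) • z) e1).trans e2)
  have hk : ∀ (V : W.toScheme.Opens) (b : Γ(W.toScheme, V)), ofR _ W V (k.app V b) =
      ((W.ι.appIso V).inv b) •
        F.presheaf.map (homOfLE (W.ι.image_mono (le_top : V ≤ ⊤))).op m₁ := by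
    intro V b
    subst hkdef
    exact ofR_homOfSection_app F W (toR _ W ⊤ m₁) V b
  have haff : ∀ g : Γ(W.toScheme, ⊤), IsAffineOpen (W.ι ''ᵁ W.toScheme.basicOpen g) := fun g =>
    ((isAffineOpen_top W.toScheme).basicOpen g).image_of_isOpenImmersion W.ι
  have hiff : ∀ (g : Γ(W.toScheme, ⊤)) (b : Γ(W.toScheme, W.toScheme.basicOpen g)),
      π.app _ b = 0 ↔ k.app _ b = 0 := by
    intro g b
    have h1 : π.app _ b = 0 ↔ (W.ι.appIso _).inv b ∈ (Icl x).ideal ⟨_, haff g⟩ :=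
      (show ofR _ W _ (π.app _ b) = 0 ↔
        (ClSub.toSubscheme (Icl x)).app (W.ι ''ᵁ W.toScheme.basicOpen g)
          ((W.ι.appIso _).inv b) = 0 by rw [hπ]).trans
        (toSubscheme_app_eq_zero_iff (Icl x) ⟨_, haff g⟩ ((W.ι.appIso _).inv b))
    have h2 : k.app _ b = 0 ↔ ((W.ι.appIso _).inv b) •
        F.presheaf.map (homOfLE (W.ι.image_mono
          (le_top : W.toScheme.basicOpen g ≤ ⊤))).op m₁ = 0 :=
      (show ofR _ W _ (k.app _ b) = 0 ↔ _ by rw [hk])
    rw [h1, h2]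
    exact (smul_res_eq_zero_iff' (Icl x) F hW₁ m₁ hm ((W.ι.appIso ⊤).inv g) _
      (Scheme.image_basicOpen W.ι g) (W.ι.image_mono le_top) (haff g) _).symm
  have hsurj : ∀ g : Γ(W.toScheme, ⊤), Function.Surjective (π.app (W.toScheme.basicOpen g)) := by
    intro g q
    obtain ⟨a, ha⟩ := toSubscheme_app_surjective (Icl x) ⟨_, haff g⟩ (ofR _ W _ q)
    refine ⟨(W.ι.appIso _).hom a, ?_⟩
    exact (hπ _ _).trans ((congrArg _ (appIso_inv_hom W _ a)).trans ha)
  have hB := isBasis_basicOpen W.toScheme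
  obtain ⟨φ, hφ⟩ := exists_desc π k _ hB (by rintro _ ⟨g, rfl⟩; exact hsurj g)
    (by rintro _ ⟨g, rfl⟩ a h; exact (hiff g a).mp h)
  exact ⟨φ, mono_of_desc π k φ hφ _ hB (by rintro _ ⟨g, rfl⟩; exact hsurj g)
    (by rintro _ ⟨g, rfl⟩ a h; exact (hiff g a).mpr h)⟩

end Main

/-- **S4658** -/
theorem main [IsLocallyNoetherian X] (F : X.Modules) (hF : Coh.IsQCoh F) (x : X) :
    x ∈ AssSch.Ass F ↔ ∃ (U : X.Opens), x ∈ U ∧
      ∃ φ : (Scheme.Modules.pullback U.ι).obj
              ((Scheme.Modules.pushforward (Scheme.IdealSheafData.vanishingIdeal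
                ⟨closure {x}, isClosed_closure⟩).subschemeι).obj
                (Coh.structureModule (Scheme.IdealSheafData.vanishingIdeal
                  ⟨closure {x}, isClosed_closure⟩).subscheme)) ⟶
            (Scheme.Modules.pullback U.ι).obj F, Mono φ := by
  haveI : F.IsQuasicoherent := hF
  constructor
  · intro hx
    obtain ⟨U, hxU, φ, hφ⟩ := exists_mono_of_isAssPoint F x hx
    haveI := hφ
    exact ⟨U, hxU, (Scheme.Modules.restrictFunctorIsoPullback U.ι).inv.app _ ≫ φ ≫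
      (Scheme.Modules.restrictFunctorIsoPullback U.ι).hom.app _, inferInstance⟩
  · rintro ⟨U, hxU, φ, hφ⟩
    haveI := hφ
    haveI : Mono ((Scheme.Modules.restrictFunctorIsoPullback U.ι).hom.app _ ≫ φ ≫
      (Scheme.Modules.restrictFunctorIsoPullback U.ι).inv.app _) := inferInstance
    exact isAssPoint_of_mono F x U hxU
      ((Scheme.Modules.restrictFunctorIsoPullback U.ι).hom.app _ ≫ φ ≫
      (Scheme.Modules.restrictFunctorIsoPullback U.ι).inv.app _)

end Groth.Agent.LD.AssMono
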