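import Mathlib
import Groth.Agent.Lib.Lead.Stein.ZariskiGeom
import Groth.Agent.Lib.Lead.Stein.Local

/-!
# The target of a fibration of proper `k`-schemes with geometrically integral source is
geometrically integral
-/

universe u

open CategoryTheory CategoryTheory.Limits AlgebraicGeometry TopologicalSpace Opposite

namespace Groth.Agent.LD.FibGeomInt

/-- a closed qcqs morphism from an integral scheme, which induces isomorphisms on the sections over
a basis of affine opens, has integral target. -/
theorem isIntegral_of_basis {W Z : Scheme.{u}} (b : W ⟶ Z) [QuasiCompact b] [QuasiSeparated b]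
    (hcl : IsClosed (Set.range b)) [IsIntegral W]
    (hbasis : ∀ z : Z, ∃ V : Z.Opens, IsAffineOpen V ∧ z ∈ V ∧ IsIso (b.app V)) :
    IsIntegral Z := by
  -- surjectivity
  have hsurj : Function.Surjective b := by
    intro z
    by_contra hz
    obtain ⟨V, hV, hzV, hiso⟩ := hbasis z
    let V' : Z.Opens := V ⊓ ⟨(Set.range b)ᶜ, hcl.isOpen_compl⟩
    haveI : IsIso (b.app V') :=
      Groth.Agent.LD.Stein.isIso_app_of_le b hV hiso V' inf_le_left
    have hpre : b ⁻¹ᵁ V' = ⊥ := by
      ext x
      simp [V']
    have h1 : Subsingleton Γ(W, b ⁻¹ᵁ V') := by rw [hpre]; infer_instance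
    have h2 : Subsingleton Γ(Z, V') :=
      (asIso (b.app V')).commRingCatIsoToRingEquiv.toEquiv.subsingleton
    have : Nonempty V' := ⟨⟨z, hzV, fun h => hz h⟩⟩
    exact not_subsingleton Γ(Z, V') h2
  rw [isIntegral_iff_irreducibleSpace_and_isReduced]
  constructor
  · -- irreducible
    have hW : IsIrreducible (Set.univ : Set W) := (irreducibleSpace_def W).mp inferInstance
    have := hW.image b b.continuous.continuousOn
    rw [Set.image_univ, hsurj.range_eq] at this
    exact (irreducibleSpace_def Z).mpr this
  · -- reduced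
    haveI : ∀ z : Z, _root_.IsReduced (Z.presheaf.stalk z) := by
      intro z
      obtain ⟨V, hV, hzV, hiso⟩ := hbasis z
      haveI : _root_.IsReduced Γ(Z, V) :=
        isReduced_of_injective (b.app V).hom
          (asIso (b.app V)).commRingCatIsoToRingEquiv.injective
      letI := Z.presheaf.algebra_section_stalk ⟨z, hzV⟩
      haveI := hV.isLocalization_stalk ⟨z, hzV⟩
      exact isReduced_localizationPreserves (hV.primeIdealOf ⟨z, hzV⟩).asIdeal.primeCompl _
        ‹_root_.IsReduced Γ(Z, V)›
    exact isReduced_of_isReduced_stalk Z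

/-- every morphism between spectra of fields is flat. -/
theorem flat_of_field {k K : Type u} [Field k] [Field K]
    (y : Spec (CommRingCat.of K) ⟶ Spec (CommRingCat.of k)) : Flat y := by
  obtain ⟨φ, rfl⟩ := Spec.map_surjective y
  rw [HasRingHomProperty.Spec_iff (P := @Flat)]
  letI : Algebra k K := φ.hom.toAlgebra
  exact (inferInstance : Module.Flat k K)

/-- **the target of a fibration of proper `k`-schemes with geometrically integral source is
geometrically integral.** -/
theorem main (k : Type u) [Field k] (X Y : Scheme.{u}) (pX : X ⟶ Spec (CommRingCat.of k))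
    (pY : Y ⟶ Spec (CommRingCat.of k)) [IsProper pX] [IsProper pY] (f : X ⟶ Y)
    (hf : f ≫ pY = pX) (hfib : ∀ V : Y.Opens, IsIso (f.app V)) [GeometricallyIntegral pX] :
    GeometricallyIntegral pY := by
  haveI : IsProper f := by
    haveI : IsProper (f ≫ pY) := hf ▸ inferInstance
    exact IsProper.of_comp f pY
  refine ⟨fun K _ y Z fst snd hZ => ?_⟩
  haveI : Flat y := flat_of_field y
  haveI : Flat fst := MorphismProperty.of_isPullback (P := @Flat) hZ.flip ‹Flat y›
  have sq1 : IsPullback (pullback.fst f fst) (pullback.snd f fst) f fst :=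
    IsPullback.of_hasPullback f fst
  have sq := sq1.paste_vert hZ
  rw [hf] at sq
  haveI : IsIntegral (pullback f fst) :=
    GeometricallyIntegral.geometrically_isIntegral (f := pX) y _ _ sq
  haveI : IsProper (pullback.snd f fst) :=
    MorphismProperty.pullback_snd (P := @IsProper) f fst inferInstance
  refine isIntegral_of_basis (pullback.snd f fst) (pullback.snd f fst).isClosedMap.isClosed_range
    fun z => ?_
  obtain ⟨_, ⟨U, hU, rfl⟩, hzU, -⟩ :=
    Y.isBasis_affineOpens.exists_subset_of_mem_open (Set.mem_univ (fst z)) isOpen_univ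
  obtain ⟨_, ⟨V, hV, rfl⟩, hzV, hVU⟩ :=
    Z.isBasis_affineOpens.exists_subset_of_mem_open (show z ∈ ((fst ⁻¹ᵁ U : Z.Opens) : Set Z) from hzU)
      (fst ⁻¹ᵁ U).2
  exact ⟨V, hV, hzV, Groth.Agent.LD.Stein.isIso_app_snd_of_flat f fst U hU V hV hVU (hfib U)⟩

end Groth.Agent.LD.FibGeomInt
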