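import Groth.Agent.Lib.Lead.Misc2.SplitExt
import Groth.Agent.Lib.Lead.FBC.Final2
import Groth.Agent.Lib.Helper2.LerayLin
import Groth.Agent.Lib.Lead.Ann.SmulEnd
import Groth.Agent.Lib.Lead.QC.HomAffine
import Groth.Agent.Lib.Lead.SC.SerreCrit

/-! # Base change of cohomology along a finite projective ring map, for an arbitrary scheme.

`B` a finite projective `A`-algebra, `X` any scheme over `A`, `X' = X ×_A B`, `F` quasi-coherent:
`B ⊗_A H^i(X, F) ≃ H^i(X', g'^* F)`.  No induction on a cover: `g'_* g'^* F` is a "direct summand of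
`F^n`" through a dual basis of `B`, and `g'` is affine (degenerate Leray). -/

universe u
open CategoryTheory Limits Opposite Abelian TopologicalSpace AlgebraicGeometry TensorProduct

namespace Groth.Agent.LD.FinProjBC
open Groth.Agent.LD.SC Groth.Agent.LD.QC Groth.Agent.LD.FBC

variable {X' X : Scheme.{u}} (g' : X' ⟶ X) (F : X.Modules)
variable {A B : Type u} [CommRing A] [CommRing B] [Algebra A B]
  (τ : A →+* Coh.Γtop X) (τ' : B →+* Coh.Γtop X')
  (hτ : ∀ r : A, g'.appTop (τ r) = τ' (algebraMap A B r))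

/-- `g'^* F`. -/
noncomputable abbrev pbF : X'.Modules := (Scheme.Modules.pullback g').obj F

/-- `g'_* g'^* F`. -/
noncomputable abbrev ppF : X.Modules := (Scheme.Modules.pushforward g').obj (pbF g' F)

/-- `F → g'_* g'^* F`, `s ↦ b • (unit s)`, as a morphism of modules. -/
noncomputable def etaM (b : B) : F ⟶ ppF g' F :=
  (Scheme.Modules.pullbackPushforwardAdjunction g').unit.app F ≫
    (Scheme.Modules.pushforward g').map (Ann.smulEnd (pbF g' F) (show Γ(X', ⊤) from τ' b))

lemma etaM_app (b : B) (U : X.Opens) (s : Γ(F, U)) :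
    (etaM g' F τ' b).app U s = resΓ X' (g' ⁻¹ᵁ U) (τ' b) • unitSec g' F U s := rfl

/-- `F → g'_* g'^* F`, `s ↦ b • (unit s)`, on the underlying abelian sheaves. -/
noncomputable def etaB :
    B →+ (Coh.toAb F ⟶ (Coh.pushAb g').obj (Coh.toAb (pbF g' F))) where
  toFun b := etaAb g' F ≫ (Coh.pushAb g').map (Coh.smulAb (pbF g' F) (τ' b))
  map_zero' := by rw [map_zero, Coh.smulAb_zero, Functor.map_zero, comp_zero]
  map_add' b b' := by rw [map_add, Coh.smulAb_add, Functor.map_add, Preadditive.comp_add]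

lemma etaB_apply (b : B) :
    etaB g' F τ' b = etaAb g' F ≫ (Coh.pushAb g').map (Coh.smulAb (pbF g' F) (τ' b)) := rfl

lemma toSheaf_etaM (b : B) :
    (SC.toAbF X).map (etaM g' F τ' b) = etaB g' F τ' b :=
  ((SC.toAbF X).map_comp _ _).trans rfl

include hτ in
lemma etaB_smul (r : A) (b : B) :
    etaB g' F τ' (r • b) = ρA F τ r ≫ etaB g' F τ' b := by
  change etaAb g' F ≫ (Coh.pushAb g').map (Coh.smulAb (pbF g' F) (τ' (r • b))) =
    Coh.smulAb F (τ r) ≫ etaAb g' F ≫ (Coh.pushAb g').map (Coh.smulAb (pbF g' F) (τ' b))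
  rw [Algebra.smul_def, mul_comm, map_mul, Coh.smulAb_mul, ← hτ, Functor.map_comp,
    ← Category.assoc, ← smulAb_etaAb, Category.assoc]

/-- the adjoint of `etaB b` is `psi b`. -/
lemma psi_eq (b : B) :
    psi g' F τ' b =
      (Lg g').map (etaB g' F τ' b) ≫ (adjAb g').counit.app (Coh.toAb (pbF g' F)) := by
  have h1 := Adjunction.homEquiv_counit (adjAb g') (Coh.toAb F) (Coh.toAb (pbF g' F))
    (etaB g' F τ' b)
  refine Eq.trans ?_ h1
  rw [etaB_apply, Adjunction.homEquiv_naturality_right_symm]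
  rfl

/-- the comparison map is the split comparison map followed by the Leray edge map. -/
lemma Θ_eq_edge (i : ℕ) (z : B ⊗[A] ExtA (ρA F τ) (ZU (JX X) ⊤) i) :
    Θ g' F τ τ' hτ ⊤ i z =
      H2.Leray.edge (adjAb g') (𝟙 ((Lg g').obj (ZU (JX X) ⊤))) (Coh.toAb (pbF g' F)) i
        (phi (ρA F τ) (etaB g' F τ') (etaB_smul g' F τ τ' hτ) (ZU (JX X) ⊤) i z) := by
  induction z using TensorProduct.induction_on with
  | zero => simp only [map_zero]
  | add x y hx hy => simp only [map_add, hx, hy]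
  | tmul b x =>
    rw [theta_tmul, phi_tmul, H2.Leray.edge_apply, CL.extCmp_apply, Ext.mk₀_id_comp,
      Ext.mapExactFunctor_comp, Ext.mapExactFunctor_mk₀, Ext.comp_assoc_of_third_deg_zero,
      Ext.mk₀_comp_mk₀, ← psi_eq]

/-- degenerate Leray for the affine morphism `g'`. -/
lemma edge_bijective [IsAffineHom g'] [F.IsQuasicoherent] (i : ℕ) :
    Function.Bijective (H2.Leray.edge (adjAb g') (𝟙 ((Lg g').obj (ZU (JX X) ⊤)))
      (Coh.toAb (pbF g' F)) i) := by
  haveI : (pbF g' F).IsQuasicoherent := qc_pullback g' F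
  have hvan : ∀ q : ℕ, IsZero (((SC.pushAb g'.base).rightDerived (q + 1)).obj
      (Coh.toAb (pbF g' F))) := fun q =>
    SC.isZero_rightDerived_push g'.base {V : X.Opens | IsAffineOpen V} X.isBasis_affineOpens 0
      (fun V hV i _ => SC.subsingleton_ext_of_isAffineOpen (pbF g' F) i (g' ⁻¹ᵁ V)
        (hV.preimage g')) q (Nat.zero_le _)
  let I := InjectiveResolution.of (Coh.toAb (pbF g' F))
  exact H2.Leray.edge_bijective (adjAb g') (𝟙 _) I
    (SC.exactAt_push_of_isZero_rightDerived g'.base I hvan) i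

/-! ### The maps `λ ⊗ id : g'_* g'^* F → F`. -/

/-- `B ⊗_A Γ(F, U) → Γ(F, U)`, `b ⊗ s ↦ λ(b) • s`. -/
noncomputable def ev (lam : B →ₗ[A] A) (U : X.Opens) : B ⊗[A] GamA F τ U →ₗ[A] GamA F τ U :=
  TensorProduct.lift ((LinearMap.lsmul A (GamA F τ U)).comp lam)

lemma ev_tmul (lam : B →ₗ[A] A) (U : X.Opens) (b : B) (s : GamA F τ U) :
    ev F τ lam U (b ⊗ₜ s) = lam b • s := by
  rw [ev, TensorProduct.lift.tmul]
  rfl

/-- multiplication by a function on `U`, as an `A`-linear endomorphism of `Γ(F, U)`. -/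
noncomputable def mulR (U : X.Opens) (r : Γ(X, U)) : GamA F τ U →ₗ[A] GamA F τ U where
  toFun s := (show Γ(F, U) from r • (show Γ(F, U) from s))
  map_add' s s' := smul_add r (show Γ(F, U) from s) (show Γ(F, U) from s')
  map_smul' a s := by
    change r • (resΓ X U (τ a) • (show Γ(F, U) from s)) =
      resΓ X U (τ a) • (r • (show Γ(F, U) from s))
    rw [smul_smul, smul_smul, mul_comm]

/-- restriction, as an `A`-linear map. -/
noncomputable def resA {U V : X.Opens} (h : V ≤ U) : GamA F τ U →ₗ[A] GamA F τ V where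
  toFun s := F.presheaf.map (homOfLE h).op (show Γ(F, U) from s)
  map_add' s s' := map_add (F.presheaf.map (homOfLE h).op).hom _ _
  map_smul' a s := by
    change F.presheaf.map (homOfLE h).op (resΓ X U (τ a) • (show Γ(F, U) from s)) =
      resΓ X V (τ a) • F.presheaf.map (homOfLE h).op (show Γ(F, U) from s)
    rw [smul_res]
    congr 1
    exact Coh.resTop_comp (op U) (op V) (homOfLE h).op (τ a)

lemma resA_apply {U V : X.Opens} (h : V ≤ U) (s : GamA F τ U) :
    resA F τ h s = F.presheaf.map (homOfLE h).op (show Γ(F, U) from s) := rfl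

lemma secMap_mulR (U : X.Opens) (r : Γ(X, U)) (z : B ⊗[A] GamA F τ U) :
    secMap g' F τ τ' hτ U ((mulR F τ U r).lTensor B z) =
      (g'.app U r) • secMap g' F τ τ' hτ U z := by
  induction z using TensorProduct.induction_on with
  | zero => simp only [map_zero, smul_zero]
  | add x y hx hy => simp only [map_add, hx, hy, smul_add]
  | tmul b s =>
    rw [LinearMap.lTensor_tmul, secMap_tmul, secMap_tmul]
    change resΓ X' (g' ⁻¹ᵁ U) (τ' b) • unitSec g' F U (r • (show Γ(F, U) from s)) = _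
    rw [unitSec_smul]
    exact smul_comm _ _ _

lemma ev_mulR (lam : B →ₗ[A] A) (U : X.Opens) (r : Γ(X, U)) (z : B ⊗[A] GamA F τ U) :
    ev F τ lam U ((mulR F τ U r).lTensor B z) = mulR F τ U r (ev F τ lam U z) := by
  induction z using TensorProduct.induction_on with
  | zero => simp only [map_zero]
  | add x y hx hy => simp only [map_add, hx, hy]
  | tmul b s => rw [LinearMap.lTensor_tmul, ev_tmul, ev_tmul, map_smul]

lemma secMap_resA {U V : X.Opens} (h : V ≤ U) (z : B ⊗[A] GamA F τ U) :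
    secMap g' F τ τ' hτ V ((resA F τ h).lTensor B z) =
      (pbF g' F).presheaf.map
        (homOfLE (show g' ⁻¹ᵁ V ≤ g' ⁻¹ᵁ U from fun _ hx => h hx)).op
        (secMap g' F τ τ' hτ U z) := by
  induction z using TensorProduct.induction_on with
  | zero => simp only [map_zero]
  | add x y hx hy => simp only [map_add, hx, hy]
  | tmul b s =>
    rw [LinearMap.lTensor_tmul, secMap_tmul, secMap_tmul, smul_res, resA_apply, unitSec_res]
    congr 1
    exact (Coh.resTop_comp (op (g' ⁻¹ᵁ U)) (op (g' ⁻¹ᵁ V)) (homOfLE _).op (τ' b)).symm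

lemma ev_resA (lam : B →ₗ[A] A) {U V : X.Opens} (h : V ≤ U) (z : B ⊗[A] GamA F τ U) :
    ev F τ lam V ((resA F τ h).lTensor B z) = resA F τ h (ev F τ lam U z) := by
  induction z using TensorProduct.induction_on with
  | zero => simp only [map_zero]
  | add x y hx hy => simp only [map_add, hx, hy]
  | tmul b s => rw [LinearMap.lTensor_tmul, ev_tmul, ev_tmul, map_smul]

lemma sum_tmul_ev {ι : Type*} [Fintype ι] (b : ι → B) (lam : ι → (B →ₗ[A] A))
    (h3 : ∀ m : B, ∑ j, lam j m • b j = m) (U : X.Opens) (z : B ⊗[A] GamA F τ U) :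
    ∑ j, b j ⊗ₜ[A] ev F τ (lam j) U z = z := by
  induction z using TensorProduct.induction_on with
  | zero => simp only [map_zero, TensorProduct.tmul_zero, Finset.sum_const_zero]
  | add x y hx hy => simp only [map_add, TensorProduct.tmul_add, Finset.sum_add_distrib, hx, hy]
  | tmul m s =>
    simp only [ev_tmul, ← TensorProduct.smul_tmul, ← TensorProduct.sum_tmul, h3]

section Lam

variable (hbij : ∀ U : X.affineOpens, Function.Bijective (secMap g' F τ τ' hτ U.1))

/-- `secMap` over an affine open, as an additive equivalence. -/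
noncomputable def secEquiv (U : X.affineOpens) :
    B ⊗[A] GamA F τ U.1 ≃+ Γ(pbF g' F, g' ⁻¹ᵁ U.1) :=
  AddEquiv.ofBijective (secMap g' F τ τ' hτ U.1) (hbij U)

/-- `λ ⊗ id` on sections over an affine open, as an additive map. -/
noncomputable def lamAdd (lam : B →ₗ[A] A) (U : X.affineOpens) :
    Γ(pbF g' F, g' ⁻¹ᵁ U.1) →+ GamA F τ U.1 :=
  (ev F τ lam U.1).toAddMonoidHom.comp (secEquiv g' F τ τ' hτ hbij U).symm.toAddMonoidHom

lemma lamAdd_secMap (lam : B →ₗ[A] A) (U : X.affineOpens) (z : B ⊗[A] GamA F τ U.1) :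
    lamAdd g' F τ τ' hτ hbij lam U (secMap g' F τ τ' hτ U.1 z) = ev F τ lam U.1 z := by
  change ev F τ lam U.1 ((secEquiv g' F τ τ' hτ hbij U).symm
    (secEquiv g' F τ τ' hτ hbij U z)) = _
  rw [AddEquiv.symm_apply_apply]

lemma lamAdd_smul (lam : B →ₗ[A] A) (U : X.affineOpens) (r : Γ(X, U.1))
    (t : Γ(pbF g' F, g' ⁻¹ᵁ U.1)) :
    lamAdd g' F τ τ' hτ hbij lam U ((g'.app U.1 r) • t) =
      mulR F τ U.1 r (lamAdd g' F τ τ' hτ hbij lam U t) := by
  obtain ⟨z, rfl⟩ := (hbij U).2 t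
  rw [← secMap_mulR, lamAdd_secMap, lamAdd_secMap, ev_mulR]

lemma lamAdd_res (lam : B →ₗ[A] A) (U V : X.affineOpens) (h : V.1 ≤ U.1)
    (t : Γ(pbF g' F, g' ⁻¹ᵁ U.1)) :
    lamAdd g' F τ τ' hτ hbij lam V ((pbF g' F).presheaf.map
        (homOfLE (show g' ⁻¹ᵁ V.1 ≤ g' ⁻¹ᵁ U.1 from fun _ hx => h hx)).op t) =
      resA F τ h (lamAdd g' F τ τ' hτ hbij lam U t) := by
  obtain ⟨z, rfl⟩ := (hbij U).2 t
  rw [← secMap_resA, lamAdd_secMap, lamAdd_secMap, ev_resA]

/-- `λ ⊗ id` on sections over an affine open. -/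
noncomputable def lamU (lam : B →ₗ[A] A) (U : X.affineOpens) :
    Γ(ppF g' F, U.1) →ₗ[Γ(X, U.1)] Γ(F, U.1) where
  toFun t := lamAdd g' F τ τ' hτ hbij lam U t
  map_add' t t' := map_add (lamAdd g' F τ τ' hτ hbij lam U) _ _
  map_smul' r t := lamAdd_smul g' F τ τ' hτ hbij lam U r t

/-- `λ ⊗ id : g'_* g'^* F → F`. -/
noncomputable def lamF (lam : B →ₗ[A] A) : ppF g' F ⟶ F :=
  homOfAffine (ppF g' F) F (fun U => lamU g' F τ τ' hτ hbij lam U)
    (fun U V h s => (lamAdd_res g' F τ τ' hτ hbij lam U V h s).symm)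

lemma lamF_app (lam : B →ₗ[A] A) (U : X.affineOpens) (t : Γ(ppF g' F, U.1)) :
    (lamF g' F τ τ' hτ hbij lam).app U.1 t = lamAdd g' F τ τ' hτ hbij lam U t :=
  homOfAffine_app (ppF g' F) F _ _ U t

lemma etaM_lamF (lam : B →ₗ[A] A) (b : B) :
    etaM g' F τ' b ≫ lamF g' F τ τ' hτ hbij lam =
      Ann.smulEnd F (show Γ(X, ⊤) from τ (lam b)) := by
  apply hom_ext_affine
  intro U s
  change (lamF g' F τ τ' hτ hbij lam).app U.1 ((etaM g' F τ' b).app U.1 s) = _
  rw [lamF_app]
  change lamAdd g' F τ τ' hτ hbij lam U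
    (secMap g' F τ τ' hτ U.1 (b ⊗ₜ[A] (show GamA F τ U.1 from s))) = _
  rw [lamAdd_secMap, ev_tmul]
  rfl

/-- evaluation of morphisms on a section, as an additive map. -/
noncomputable def appAt {M N : X.Modules} (U : X.Opens) (t : Γ(M, U)) : (M ⟶ N) →+ Γ(N, U) where
  toFun φ := φ.app U t
  map_zero' := rfl
  map_add' _ _ := rfl

lemma sum_comp_app {ι : Type*} [Fintype ι] {M N K : X.Modules} (φ : ι → (M ⟶ N))
    (ψ : ι → (N ⟶ K)) (U : X.Opens) (t : Γ(M, U)) :
    (∑ j, φ j ≫ ψ j).app U t = ∑ j, (ψ j).app U ((φ j).app U t) :=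
  map_sum (appAt U t) _ _

lemma sum_lamF_etaM {ι : Type*} [Fintype ι] (b : ι → B) (lam : ι → (B →ₗ[A] A))
    (h3 : ∀ m : B, ∑ j, lam j m • b j = m) :
    ∑ j, lamF g' F τ τ' hτ hbij (lam j) ≫ etaM g' F τ' (b j) = 𝟙 (ppF g' F) := by
  apply hom_ext_affine
  intro U t
  obtain ⟨z, rfl⟩ := (hbij U).2 t
  rw [sum_comp_app]
  have hterm : ∀ j, (etaM g' F τ' (b j)).app U.1
      ((lamF g' F τ τ' hτ hbij (lam j)).app U.1 (secMap g' F τ τ' hτ U.1 z)) =
      secMap g' F τ τ' hτ U.1 (b j ⊗ₜ[A] ev F τ (lam j) U.1 z) := by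
    intro j
    rw [lamF_app, lamAdd_secMap]
    rfl
  rw [Finset.sum_congr rfl (fun j _ => hterm j)]
  have hs : ∑ j, secMap g' F τ τ' hτ U.1 (b j ⊗ₜ[A] ev F τ (lam j) U.1 z) =
      secMap g' F τ τ' hτ U.1 z := by
    rw [← map_sum, sum_tmul_ev F τ b lam h3 U.1 z]
  exact hs

end Lam

section Final

variable [Module.Finite A B] [Module.Projective A B]
variable (f : X ⟶ Spec (CommRingCat.of A)) (f' : X' ⟶ Spec (CommRingCat.of B))
  (h : IsPullback g' f' f (Spec.map (CommRingCat.ofHom (algebraMap A B))))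

include h in
/-- the comparison maps on `ℤ_X` are bijective. -/
theorem bijective_Θ_top [F.IsQuasicoherent] (i : ℕ) :
    Function.Bijective (Θ g' F (Coh.toGlobal f) (Coh.toGlobal f')
      (toGlobal_compat f f' g' h) ⊤ i) := by
  have hτ := toGlobal_compat f f' g' h
  haveI := isAffineHom_of_isPullback f f' g' h
  have hbij : ∀ U : X.affineOpens, Function.Bijective
      (secMap g' F (Coh.toGlobal f) (Coh.toGlobal f') hτ U.1) :=
    fun U => bijective_secMap f f' g' h F U.1 U.2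
  obtain ⟨n, fB, gB, -, -, hfg⟩ := Module.Finite.exists_comp_eq_id_of_projective A B
  let b : Fin n → B := fun j => fB (fun k => if j = k then 1 else 0)
  let lam : Fin n → (B →ₗ[A] A) := fun j => (LinearMap.proj j).comp gB
  have h3 : ∀ m : B, ∑ j, lam j m • b j = m := fun m =>
    (LinearMap.pi_apply_eq_sum_univ fB (gB m)).symm.trans (LinearMap.congr_fun hfg m)
  have h1 : ∑ j, (SC.toAbF X).map
      (lamF g' F (Coh.toGlobal f) (Coh.toGlobal f') hτ hbij (lam j)) ≫
        etaB g' F (Coh.toGlobal f') (b j) = 𝟙 _ := by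
    have := congrArg (fun φ => (SC.toAbF X).map φ)
      (sum_lamF_etaM g' F (Coh.toGlobal f) (Coh.toGlobal f') hτ hbij b lam h3)
    simp only [Functor.map_sum, Functor.map_comp, toSheaf_etaM] at this
    exact this
  have h2 : ∀ (m : B) (j : Fin n), etaB g' F (Coh.toGlobal f') m ≫
      (SC.toAbF X).map
        (lamF g' F (Coh.toGlobal f) (Coh.toGlobal f') hτ hbij (lam j)) =
      ρA F (Coh.toGlobal f) (lam j m) := by
    intro m j
    have := congrArg (fun φ => (SC.toAbF X).map φ)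
      (etaM_lamF g' F (Coh.toGlobal f) (Coh.toGlobal f') hτ hbij (lam j) m)
    simp only [Functor.map_comp, toSheaf_etaM] at this
    exact this
  have hphi := phi_bijective (ρA F (Coh.toGlobal f)) (etaB g' F (Coh.toGlobal f'))
    (etaB_smul g' F (Coh.toGlobal f) (Coh.toGlobal f') hτ) b lam
    (fun j => (SC.toAbF X).map
      (lamF g' F (Coh.toGlobal f) (Coh.toGlobal f') hτ hbij (lam j))) h1 h2 h3
    (ZU (JX X) ⊤) i
  have heq : ⇑(Θ g' F (Coh.toGlobal f) (Coh.toGlobal f') hτ ⊤ i) =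
      ⇑(H2.Leray.edge (adjAb g') (𝟙 ((Lg g').obj (ZU (JX X) ⊤))) (Coh.toAb (pbF g' F)) i) ∘
        ⇑(phi (ρA F (Coh.toGlobal f)) (etaB g' F (Coh.toGlobal f'))
          (etaB_smul g' F (Coh.toGlobal f) (Coh.toGlobal f') hτ) (ZU (JX X) ⊤) i) :=
    funext (Θ_eq_edge g' F (Coh.toGlobal f) (Coh.toGlobal f') hτ i)
  rw [heq]
  exact (edge_bijective g' F i).comp hphi

include h in
/-- **Base change along a finite projective ring map, for an arbitrary scheme.** -/
theorem finproj_base_change [F.IsQuasicoherent] (i : ℕ) :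
    letI : Module A (Coh.HH X F i) := Module.compHom _ (Coh.toGlobal f)
    letI : Module B (Coh.HH X' ((Scheme.Modules.pullback g').obj F) i) :=
      Module.compHom _ (Coh.toGlobal f')
    Nonempty (TensorProduct A B (Coh.HH X F i) ≃ₗ[B]
      Coh.HH X' ((Scheme.Modules.pullback g').obj F) i) := by
  letI mA : Module A (Coh.HH X F i) := Module.compHom _ (Coh.toGlobal f)
  letI mB : Module B (Coh.HH X' ((Scheme.Modules.pullback g').obj F) i) :=
    Module.compHom _ (Coh.toGlobal f')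
  have hτ := toGlobal_compat f f' g' h
  have hP : Function.Bijective (Θ g' F (Coh.toGlobal f) (Coh.toGlobal f') hτ ⊤ i) :=
    bijective_Θ_top g' F f f' h i
  let e₁ := HHEquivExtA F (Coh.toGlobal f) i
  let Ψ : B ⊗[A] Coh.HH X F i →+ Coh.HH X' ((Scheme.Modules.pullback g').obj F) i :=
    (extLZUTopEquiv g' _ i).toAddMonoidHom.comp
      ((Θ g' F (Coh.toGlobal f) (Coh.toGlobal f') hτ ⊤ i).comp
        (e₁.toLinearMap.lTensor B).toAddMonoidHom)
  have hΨ : Function.Bijective Ψ :=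
    (extLZUTopEquiv g' _ i).bijective.comp (hP.comp (e₁.lTensor B).bijective)
  have hlin : ∀ (b' : B) (z : B ⊗[A] Coh.HH X F i), Ψ (b' • z) = b' • Ψ z := by
    intro b' z
    induction z using TensorProduct.induction_on with
    | zero => rw [smul_zero, map_zero, smul_zero]
    | add x y hx hy => rw [smul_add, map_add, hx, hy, map_add, smul_add]
    | tmul b x =>
      rw [TensorProduct.smul_tmul', smul_eq_mul]
      change extLZUTopEquiv g' _ i (Θ g' F (Coh.toGlobal f) (Coh.toGlobal f') hτ ⊤ i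
          ((b' * b) ⊗ₜ e₁ x)) =
        Sheaf.H.map (Coh.smulAb _ (Coh.toGlobal f' b')) i
          (extLZUTopEquiv g' _ i (Θ g' F (Coh.toGlobal f) (Coh.toGlobal f') hτ ⊤ i (b ⊗ₜ e₁ x)))
      rw [← extLZUTopEquiv_comp, theta_tmul, theta_tmul, Ext.comp_assoc_of_third_deg_zero,
        Ext.mk₀_comp_mk₀, psi_apply, psi_apply, map_mul, Coh.smulAb_mul, Category.assoc]
  exact ⟨LinearEquiv.ofBijective
    { toFun := Ψ, map_add' := Ψ.map_add, map_smul' := hlin } hΨ⟩

end Final

end Groth.Agent.LD.FinProjBC
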