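import Mathlib
import Groth.Agent.S8872
import Groth.Agent.S8875
import Groth.Agent.H4.FittSheaf
import Groth.Agent.H4.Fitting5
import Groth.Agent.Lib.Lead.QC.Pullback

/-! lead: the Fitting stratum of rank `r` represents "the pullback is finite locally free of rank
`r`" (S10847). -/

set_option autoImplicit false

universe u

open CategoryTheory Limits AlgebraicGeometry TopologicalSpace

namespace Groth.Agent.LD.FitStrat

open Groth.Agent.LD.QC

variable {X : Scheme.{u}}

/-- Fitting ideal sheaves increase with the index. -/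
theorem sheafIdeal_mono (F : X.Modules) [F.IsQuasicoherent] (hF : F.IsFiniteType) {k k' : ℕ}
    (h : k ≤ k') : Fitt.sheafIdeal F k ≤ Fitt.sheafIdeal F k' := by
  rw [Scheme.IdealSheafData.le_def]
  intro U
  rw [Groth.Agent.H4.FittSheaf.sheafIdeal_ideal F hF k U,
    Groth.Agent.H4.FittSheaf.sheafIdeal_ideal F hF k' U]
  exact Groth.Agent.H4.Fitting.ideal_mono_index h

/-- an ideal sheaf pulls back to zero on its own closed subscheme (as in helper4's `FittMor2`). -/
theorem comap_subschemeι {Y : Scheme.{u}} (I : Y.IdealSheafData) : I.comap I.subschemeι = ⊥ := by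
  rw [eq_bot_iff, ← Scheme.IdealSheafData.le_map_iff_comap_le, Scheme.IdealSheafData.map_bot,
    Scheme.IdealSheafData.ker_subschemeι]

/-- the inverse image of an ideal sheaf is the unit ideal iff the morphism misses its support. -/
theorem comap_eq_top_iff {T : Scheme.{u}} (I : X.IdealSheafData) (f : T ⟶ X) :
    I.comap f = ⊤ ↔ ∀ t : T, f t ∉ I.support := by
  rw [← Scheme.IdealSheafData.support_eq_bot_iff, Scheme.IdealSheafData.support_comap]
  constructor
  · intro h t ht
    have h1 : t ∈ I.support.preimage f.continuous := ht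
    rw [h] at h1
    have h2 : t ∈ ((⊥ : Closeds T) : Set T) := h1
    rw [Closeds.coe_bot] at h2
    exact h2
  · intro h
    apply Closeds.ext
    rw [Closeds.coe_bot]
    ext t
    constructor
    · intro ht
      exact (h t ht).elim
    · intro ht
      exact ht.elim

/-- the flattening stratum of rank `r` of a quasi-coherent module of finite type; it is closed
when the `r`-th Fitting ideal is the unit ideal. -/
theorem main' (F : X.Modules) [F.IsQuasicoherent] (hF : F.IsFiniteType) (r : ℕ) :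
    ∃ (Z : Scheme.{u}) (i : Z ⟶ X), IsImmersion i ∧ (∀ (T : Scheme.{u}) (f : T ⟶ X),
      (∃ g : T ⟶ Z, g ≫ i = f) ↔
        FlatMod.IsFinLocFreeOfRank r ((Scheme.Modules.pullback f).obj F)) ∧
      ((∀ x : X, x ∉ (Fitt.sheafIdeal F r).support) → IsClosedImmersion i) := by
  obtain ⟨J, hJ⟩ : ∃ J : X.IdealSheafData, ∀ {T : Scheme.{u}} (f : T ⟶ X),
      J.comap f = ⊥ ↔ ∀ k, k < r → (Fitt.sheafIdeal F k).comap f = ⊥ := by
    rcases Nat.eq_zero_or_pos r with h0 | hpos
    · exact ⟨⊥, fun f => ⟨fun _ k hk => absurd hk (by omega),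
        fun _ => Scheme.IdealSheafData.comap_bot f⟩⟩
    · refine ⟨Fitt.sheafIdeal F (r - 1), fun f => ⟨fun h k hk => ?_, fun h => h (r - 1) (by omega)⟩⟩
      rw [eq_bot_iff, ← h]
      exact Scheme.IdealSheafData.comap_mono f (sheafIdeal_mono F hF (by omega))
  obtain ⟨I, hIk, hIr⟩ : ∃ I : X.IdealSheafData, (∀ {T : Scheme.{u}} (f : T ⟶ X),
      I.comap f = ⊤ ↔ ∀ k, r ≤ k → (Fitt.sheafIdeal F k).comap f = ⊤) ∧
      I = Fitt.sheafIdeal F r := by
    refine ⟨Fitt.sheafIdeal F r, fun f => ⟨fun h k hk => ?_, fun h => h r le_rfl⟩, rfl⟩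
    rw [eq_top_iff, ← h]
    exact Scheme.IdealSheafData.comap_mono f (sheafIdeal_mono F hF hk)
  obtain ⟨U, hU⟩ : ∃ U : X.Opens, U = I.support.compl := ⟨_, rfl⟩
  obtain ⟨J', hJ'⟩ : ∃ J' : (U : Scheme.{u}).IdealSheafData, J' = J.comap U.ι := ⟨_, rfl⟩
  refine ⟨J'.subscheme, J'.subschemeι ≫ U.ι, inferInstance, fun T f => ?_, fun hx => ?_⟩
  swap
  · have hx' : ∀ x : X, x ∉ I.support := by rw [hIr]; exact hx
    have hUtop : U = ⊤ := by
      rw [hU]
      apply Opens.ext
      ext x
      exact ⟨fun _ => by simp, fun _ => hx' x⟩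
    subst hUtop
    haveI : IsIso (⊤ : X.Opens).ι := inferInstanceAs (IsIso X.topIso.hom)
    infer_instance
  haveI := qc_pullback f F
  have hft := isFiniteType_pullback f F hF
  have hS := Groth.Agent.S8875.result T ((Scheme.Modules.pullback f).obj F)
    (qc_pullback f F) hft r
  have hfit : ∀ k, Fitt.sheafIdeal ((Scheme.Modules.pullback f).obj F) k =
      (Fitt.sheafIdeal F k).comap f :=
    fun k => (Groth.Agent.S8872.result f F inferInstance hF k).symm
  have hkey : FlatMod.IsFinLocFreeOfRank r ((Scheme.Modules.pullback f).obj F) ↔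
      (J.comap f = ⊥ ∧ I.comap f = ⊤) := by
    rw [hS, hJ f, hIk f]
    constructor
    · rintro ⟨h1, h2⟩
      exact ⟨fun k hk => by rw [← hfit k]; exact h1 k hk,
        fun k hk => by rw [← hfit k]; exact h2 k hk⟩
    · rintro ⟨h1, h2⟩
      exact ⟨fun k hk => by rw [hfit k]; exact h1 k hk,
        fun k hk => by rw [hfit k]; exact h2 k hk⟩
  rw [hkey, comap_eq_top_iff]
  constructor
  · rintro ⟨g, rfl⟩
    refine ⟨?_, ?_⟩
    · rw [Scheme.IdealSheafData.comap_comp, Scheme.IdealSheafData.comap_comp, ← hJ',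
        comap_subschemeι, Scheme.IdealSheafData.comap_bot]
    · intro t ht
      have h2 : (g ≫ J'.subschemeι ≫ U.ι) t ∈ Set.range U.ι := ⟨(g ≫ J'.subschemeι) t, rfl⟩
      rw [Scheme.Opens.range_ι] at h2
      have h3 : ∀ x : X, x ∈ U → x ∉ I.support := by
        intro x hx
        rw [hU] at hx
        exact hx
      exact h3 _ h2 ht
  · rintro ⟨hJf, hrange⟩
    have hr' : Set.range f ⊆ Set.range U.ι := by
      rw [Scheme.Opens.range_ι, hU]
      rintro _ ⟨t, rfl⟩
      exact hrange t
    obtain ⟨f', hf'⟩ : ∃ f' : T ⟶ U, f' ≫ U.ι = f :=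
      ⟨IsOpenImmersion.lift U.ι f hr', IsOpenImmersion.lift_fac U.ι f hr'⟩
    have hJ'f : J'.comap f' = ⊥ := by
      rw [hJ', ← Scheme.IdealSheafData.comap_comp, hf', hJf]
    have hle : J'.subschemeι.ker ≤ f'.ker := by
      rw [Scheme.IdealSheafData.ker_subschemeι, ← Scheme.IdealSheafData.map_bot,
        Scheme.IdealSheafData.le_map_iff_comap_le]
      exact hJ'f.le
    refine ⟨IsClosedImmersion.lift J'.subschemeι f' hle, ?_⟩
    rw [← Category.assoc, IsClosedImmersion.lift_fac, hf']

/-- **S10847**: the flattening stratum of rank `r` of a quasi-coherent module of finite type. -/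
theorem main (F : X.Modules) [F.IsQuasicoherent] (hF : F.IsFiniteType) (r : ℕ) :
    ∃ (Z : Scheme.{u}) (i : Z ⟶ X), IsImmersion i ∧ ∀ (T : Scheme.{u}) (f : T ⟶ X),
      (∃ g : T ⟶ Z, g ≫ i = f) ↔
        FlatMod.IsFinLocFreeOfRank r ((Scheme.Modules.pullback f).obj F) := by
  obtain ⟨Z, i, h1, h2, -⟩ := main' F hF r
  exact ⟨Z, i, h1, h2⟩

end Groth.Agent.LD.FitStrat
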