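import Mathlib
import Groth.Agent.H4.LFP1
import Groth.Agent.Lib.Lead.Misc2.GenIsoPush2

/-! # S11389: the variant of S10949 with the number of copies equal to the degree. -/

set_option autoImplicit false
universe u
attribute [local instance] HasDerivedCategory.standard
open CategoryTheory CategoryTheory.Limits AlgebraicGeometry Groth.Agent.LD.QC DerivedCategory
open Groth.Agent.H1.CohLen Groth.Agent.H1.SchFlat
open Groth.Agent.H4.PSch1 Groth.Agent.H4.PSch2 Groth.Agent.H4.PSch3 Groth.Agent.H4.PSch4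
open Groth.Agent.H4.PSch5 Groth.Agent.H4.PCS6 Groth.Agent.H4.FAmp2 Groth.Agent.H4.FAmp3
open Groth.Agent.H4.FAmp7 Groth.Agent.H4.FAmp8

namespace Groth.Agent.LD.GenIsoPush3

variable {X : Scheme.{u}}

/-- modules isomorphic near `x` have stalks of the same rank at `x`. -/
theorem finrank_stalk_eq_of_restrict_iso (A B : X.Modules) (V : X.Opens)
    (e : A.restrict V.ι ≅ B.restrict V.ι) (x : X) (hx : x ∈ V) :
    Module.finrank (X.presheaf.stalk x) (A.presheaf.stalk x) =
      Module.finrank (X.presheaf.stalk x) (B.presheaf.stalk x) := by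
  let y : (V : Scheme.{u}) := ⟨x, hx⟩
  have h1 : Module.finrank ((V : Scheme.{u}).presheaf.stalk y)
      ((A.restrict V.ι).presheaf.stalk y) =
      Module.finrank ((V : Scheme.{u}).presheaf.stalk y) ((B.restrict V.ι).presheaf.stalk y) :=
    (((DerSch.stalkFunctor (V : Scheme.{u}) y).mapIso e).toLinearEquiv).finrank_eq
  have key : ∀ F : X.Modules, Module.finrank (X.presheaf.stalk x) (F.presheaf.stalk x) =
      Module.finrank ((V : Scheme.{u}).presheaf.stalk y)
        ((F.restrict V.ι).presheaf.stalk y) := by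
    intro F
    have h2 := rank_eq_of_equiv_equiv (stalkRingEquiv V.ι y) (stalkRestrictAddEquiv V.ι F y)
      (stalkRingEquiv V.ι y).bijective (stalkRestrictAddEquiv_smul V.ι F y)
    unfold Module.finrank
    exact congrArg Cardinal.toNat h2.symm
  rw [key A, key B, h1]

end Groth.Agent.LD.GenIsoPush3

namespace Groth.Agent.LD.GenIsoPush
open Groth.Agent.LD.QC Groth.Agent.LD.DF

/-- the construction of `main2`, for a given trivialization of `f_* O_X`. -/
theorem main2_of_free {X Y : Scheme.{u}} [IsIntegral X] [IsNoetherian X] [IsIntegral Y]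
    [IsNoetherian Y] (f : X ⟶ Y) [IsFinite f] [Surjective f] (F : Y.Modules) (hF : Coh.IsCoh F)
    (V1 : Y.Opens) (n : ℕ) (hη1 : genericPoint Y ∈ V1)
    (eB : (FlatMod.freeMod Y n).restrict V1.ι ≅ (pushUnit f).restrict V1.ι) :
    ∃ (G : X.Modules)
      (β : (Scheme.Modules.pushforward f).obj G ⟶ ∐ fun _ : Fin n => F)
      (V : Y.Opens),
      Coh.IsCoh G ∧ genericPoint Y ∈ V ∧
      IsIso ((Scheme.Modules.restrictFunctor V.ι).map β) := by
  obtain ⟨V2, d, hη2, ⟨eF⟩⟩ := DF.exists_restrict_iso_freeMod' F hF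
  let V : Y.Opens := V1 ⊓ V2
  have hηV : genericPoint Y ∈ V := ⟨hη1, hη2⟩
  obtain ⟨eB'⟩ := nonempty_restrict_iso_of_le (inf_le_left : V ≤ V1) eB
  obtain ⟨eF'⟩ := nonempty_restrict_iso_of_le (inf_le_right : V ≤ V2) eF
  obtain ⟨φ⟩ := nonempty_phi f F V n d eB' eF'
  have hE : Coh.IsCoh (FlatMod.freeMod X d) := isCoh_freeMod X d
  haveI := hE.1
  have hA : Coh.IsCoh ((Scheme.Modules.pushforward f).obj (FlatMod.freeMod X d)) :=
    ⟨qc_pushforward f _, isFiniteType_pushforward_of_isFinite f _ hE.2⟩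
  have hFr : (∐ fun _ : ULift.{u} (Fin n) => F).IsQuasicoherent := by
    haveI := hF.1
    exact qc_of_iso (Sigma.whiskerEquiv (f := fun _ : Fin n => F)
      (g := fun _ : ULift.{u} (Fin n) => F) Equiv.ulift.symm (fun _ => Iso.refl _))
      (qc_sigma_fin F n)
  have hU : (V : Set Y) = (((complIdeal V.ι).support : Set Y))ᶜ := by
    rw [coe_support_complIdeal, compl_compl, Scheme.Opens.range_ι]
  obtain ⟨k, ψ, hψ⟩ := deligne_exists (∐ fun _ : ULift.{u} (Fin n) => F)
    ((Scheme.Modules.pushforward f).obj (FlatMod.freeMod X d)) (complIdeal V.ι) V hU hFr hA φ.hom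
  obtain ⟨eI, heI⟩ := IdealPush.main f (FlatMod.freeMod X d) hE.1 ((complIdeal V.ι) ^ k)
  have hG : Coh.IsCoh ((Dual3.idealMul (((complIdeal V.ι) ^ k).comap f)).obj
      (FlatMod.freeMod X d)) := isCoh_idealMul _ _ hE
  have hβ : IsIso ((Scheme.Modules.restrictFunctor V.ι).map (eI.inv ≫ ψ)) := by
    haveI := isIso_restrict_idealMulι ((complIdeal V.ι) ^ k) V.ι
      ((Scheme.Modules.pushforward f).obj (FlatMod.freeMod X d))
      (disjoint_range_support_complIdeal_pow V.ι k)
    rw [Functor.map_comp, hψ]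
    infer_instance
  let c9 : (∐ fun _ : Fin n => F) ≅ ∐ fun _ : ULift.{u} (Fin n) => F :=
    Sigma.whiskerEquiv (f := fun _ : Fin n => F)
      (g := fun _ : ULift.{u} (Fin n) => F) Equiv.ulift.symm (fun _ => Iso.refl _)
  refine ⟨_, (eI.inv ≫ ψ) ≫ c9.inv, V, hG, hηV, ?_⟩
  haveI := hβ
  rw [Functor.map_comp]
  infer_instance

/-- **S11389**. -/
theorem main3 {X Y : Scheme.{u}} [IsIntegral X] [IsNoetherian X] [IsIntegral Y]
    [IsNoetherian Y] (f : X ⟶ Y) [IsFinite f] [Surjective f] (F : Y.Modules) (hF : Coh.IsCoh F) :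
    ∃ (G : X.Modules) (u : (Scheme.Modules.pushforward f).obj G ⟶
        ∐ fun _ : Fin (Module.finrank (Y.functionField)
            (((Scheme.Modules.pushforward f).obj (Coh.structureModule X)).presheaf.stalk
              (genericPoint Y))) => F),
      Coh.IsCoh G ∧ ∃ V : Y.Opens, genericPoint Y ∈ V ∧
        IsIso ((Scheme.Modules.restrictFunctor V.ι).map u) := by
  obtain ⟨V1, n, hη1, -, ⟨eB⟩⟩ := exists_free_pushUnit f
  have hn : Module.finrank (Y.functionField)
      (((Scheme.Modules.pushforward f).obj (Coh.structureModule X)).presheaf.stalk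
        (genericPoint Y)) = n := by
    have h1 := GenIsoPush3.finrank_stalk_eq_of_restrict_iso _ _ V1 eB (genericPoint Y) hη1
    rw [Groth.Agent.H4.LFP1.finrank_stalk_freeMod] at h1
    exact h1.symm
  obtain ⟨G, β, V, hG, hηV, hβ⟩ := main2_of_free f F hF V1 n hη1 eB
  subst hn
  exact ⟨G, β, hG, V, hηV, hβ⟩

end Groth.Agent.LD.GenIsoPush
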