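import Groth.Agent.Lib.Lead.XS.LeftHom
import Groth.Agent.Lib.Helper2.HomSh4
import Groth.Agent.Lib.Helper2.SecOrdRef
import Groth.Agent.Lib.Helper6.HomKer
import Groth.Agent.Lib.Helper1.CohLen
import Groth.Agent.Lib.Lead.QC.Coh

/-!
# Depth and `(S_k)` for the sheaf Hom of coherent modules
-/

set_option autoImplicit false
universe u
open CategoryTheory Limits AlgebraicGeometry TopologicalSpace Opposite

namespace Groth.Agent.LD.HomDepth

open Groth.Agent.H2.HomSh Groth.Agent.LD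

attribute [-instance] Groth.Agent.LD.QC.stalkModule

section Alg

variable {R : Type u} [CommRing R] (M N : Type u) [AddCommGroup M] [Module R M]
  [AddCommGroup N] [Module R N]

lemma supportDim_hom_le [Module.Finite R N] :
    Module.supportDim R (M →ₗ[R] N) ≤ Module.supportDim R N := by
  have hsub : ∀ p, p ∈ Module.support R (M →ₗ[R] N) → p ∈ Module.support R N := by
    intro p hp
    rw [Module.mem_support_iff_of_finite]
    refine le_trans ?_ (Module.annihilator_le_of_mem_support hp)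
    intro r hr
    rw [Module.mem_annihilator] at hr ⊢
    intro f
    ext m
    rw [LinearMap.smul_apply, hr, LinearMap.zero_apply]
  show Order.krullDim (Module.support R (M →ₗ[R] N)) ≤ Order.krullDim (Module.support R N)
  exact Order.krullDim_le_of_strictMono
    (fun p => (⟨p.1, hsub p.1 p.2⟩ : Module.support R N)) (fun a b h => h)

lemma sk_arith (k : ℕ) (hk : k = 1 ∨ k = 2) (dN dH : ℕ∞) (sN sH : WithBot ℕ∞)
    (h1 : (1 : ℕ∞) ≤ dN → (1 : ℕ∞) ≤ dH) (h2 : (2 : ℕ∞) ≤ dN → (2 : ℕ∞) ≤ dH)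
    (hs : sH ≤ sN) (hS : min (k : WithBot ℕ∞) sN ≤ ((dN : ℕ∞) : WithBot ℕ∞)) :
    min (k : WithBot ℕ∞) sH ≤ ((dH : ℕ∞) : WithBot ℕ∞) := by
  by_cases hkd : (k : ℕ∞) ≤ dN
  · have hkH : (k : ℕ∞) ≤ dH := by
      rcases hk with rfl | rfl
      · exact_mod_cast h1 (by exact_mod_cast hkd)
      · exact_mod_cast h2 (by exact_mod_cast hkd)
    refine (min_le_left _ _).trans ?_
    have : ((k : ℕ∞) : WithBot ℕ∞) ≤ ((dH : ℕ∞) : WithBot ℕ∞) := WithBot.coe_le_coe.mpr hkH
    exact_mod_cast this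
  · rw [not_le] at hkd
    have h3 : sN ≤ ((dN : ℕ∞) : WithBot ℕ∞) := by
      rcases min_le_iff.mp hS with h | h
      · exfalso
        have : ((k : ℕ∞) : WithBot ℕ∞) ≤ ((dN : ℕ∞) : WithBot ℕ∞) := by exact_mod_cast h
        exact absurd (WithBot.coe_le_coe.mp this) (not_le.mpr hkd)
      · exact h
    have h4 : dN ≤ dH := by
      have hne : dN ≠ ⊤ := ne_top_of_lt hkd
      lift dN to ℕ using hne
      have hlt : dN < k := by exact_mod_cast hkd
      have h01 : dN = 0 ∨ dN = 1 := by rcases hk with rfl | rfl <;> omega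
      rcases h01 with rfl | rfl
      · simp
      · simpa using h1 (by simp)
    exact (min_le_right _ _).trans (hs.trans (h3.trans (WithBot.coe_le_coe.mpr h4)))

end Alg

variable {X : Scheme.{u}}

/-- the stalk of the sheaf Hom is the Hom of the stalks. -/
theorem nonempty_stalk_equiv [IsLocallyNoetherian X] (F G : X.Modules) (hF : Coh.IsCoh F)
    [DCoh.HasSheafHom F] (x : X) :
    Nonempty ((((DCoh.sheafHom F).obj G).presheaf.stalk x) ≃ₗ[X.presheaf.stalk x]
      (F.presheaf.stalk x →ₗ[X.presheaf.stalk x] G.presheaf.stalk x)) := by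
  haveI := hF.1
  have hFfp : F.IsFinitePresentation := QC.isFinitePresentation_of_qc_ft F hF.1 hF.2
  let e : (DCoh.sheafHom F).obj G ≅ RefHull.homSh F G := (XS.dcohHomIso F).app G
  exact ⟨(LinearEquiv.ofBijective _ (H2.SecOrd.stalkMapₗ_bijective_of_iso e x)).trans
    (LinearEquiv.ofBijective _ (evalStalk_bijective hFfp x))⟩

theorem main [IsLocallyNoetherian X] (F G : X.Modules)
    (hF : Coh.IsCoh F) (hG : Coh.IsCoh G) [DCoh.HasSheafHom F] (x : X) :
    ((1 : ℕ∞) ≤ LocCoh.depth (X.presheaf.stalk x) ↑(G.presheaf.stalk x) →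
      (1 : ℕ∞) ≤ LocCoh.depth (X.presheaf.stalk x)
        ↑(((DCoh.sheafHom F).obj G).presheaf.stalk x)) ∧
    ((2 : ℕ∞) ≤ LocCoh.depth (X.presheaf.stalk x) ↑(G.presheaf.stalk x) →
      (2 : ℕ∞) ≤ LocCoh.depth (X.presheaf.stalk x)
        ↑(((DCoh.sheafHom F).obj G).presheaf.stalk x)) := by
  haveI := hF.1
  haveI := hG.1
  haveI : Module.Finite (X.presheaf.stalk x) (F.presheaf.stalk x) :=
    H1.CohLen.finite_stalk F hF.2 x
  haveI : Module.Finite (X.presheaf.stalk x) (G.presheaf.stalk x) :=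
    H1.CohLen.finite_stalk G hG.2 x
  obtain ⟨e⟩ := nonempty_stalk_equiv F G hF x
  have hd : LocCoh.depth (X.presheaf.stalk x) ↑(((DCoh.sheafHom F).obj G).presheaf.stalk x) =
      LocCoh.idealDepth (IsLocalRing.maximalIdeal (X.presheaf.stalk x))
        (F.presheaf.stalk x →ₗ[X.presheaf.stalk x] G.presheaf.stalk x) :=
    H6.HomKer.idealDepth_congr _ e
  rw [hd]
  exact H6.HomKer.idealDepth_hom (IsLocalRing.maximalIdeal (X.presheaf.stalk x))
    (F.presheaf.stalk x) (G.presheaf.stalk x)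

theorem main2 [IsLocallyNoetherian X] (F G : X.Modules)
    (hF : Coh.IsCoh F) (hG : Coh.IsCoh G) [DCoh.HasSheafHom F] (k : ℕ) (hk : k = 1 ∨ k = 2)
    (hS : ∀ x : X, min (k : WithBot ℕ∞)
        (Module.supportDim (X.presheaf.stalk x) ↑(G.presheaf.stalk x)) ≤
      ((LocCoh.depth (X.presheaf.stalk x) ↑(G.presheaf.stalk x) : ℕ∞) : WithBot ℕ∞)) (x : X) :
    min (k : WithBot ℕ∞)
        (Module.supportDim (X.presheaf.stalk x)
          ↑(((DCoh.sheafHom F).obj G).presheaf.stalk x)) ≤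
      ((LocCoh.depth (X.presheaf.stalk x) ↑(((DCoh.sheafHom F).obj G).presheaf.stalk x) : ℕ∞) :
        WithBot ℕ∞) := by
  haveI := hF.1
  haveI := hG.1
  haveI : Module.Finite (X.presheaf.stalk x) (G.presheaf.stalk x) :=
    H1.CohLen.finite_stalk G hG.2 x
  obtain ⟨e⟩ := nonempty_stalk_equiv F G hF x
  have hs : Module.supportDim (X.presheaf.stalk x)
      ↑(((DCoh.sheafHom F).obj G).presheaf.stalk x) ≤
      Module.supportDim (X.presheaf.stalk x) ↑(G.presheaf.stalk x) := by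
    rw [Module.supportDim_eq_of_equiv e]
    exact supportDim_hom_le _ _
  exact sk_arith k hk _ _ _ _ (main F G hF hG x).1 (main F G hF hG x).2 hs (hS x)

end Groth.Agent.LD.HomDepth
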