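import Mathlib
import Groth.Agent.H4.KProj6
import Groth.Agent.H4.FlatPull1

/-!
# Direct images along flat morphisms preserve K-injective complexes (lead)

A right adjoint whose left adjoint preserves acyclic complexes preserves K-injective complexes
(dual of `Groth.Agent.H4.BC.isKProjective_map`).
-/

set_option autoImplicit false
universe u
open CategoryTheory CategoryTheory.Limits AlgebraicGeometry

namespace Groth.Agent.LD.KInjPush

section Abstract

universe v v' u' u''

variable {V : Type u'} [Category.{v} V] [Abelian V] {W : Type u''} [Category.{v'} W] [Abelian W]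
  {F : V ⥤ W} {G : W ⥤ V} [F.Additive] [G.Additive]

/-- a right adjoint whose left adjoint preserves acyclic complexes preserves K-injective
complexes. -/
theorem isKInjective_map (adj : F ⊣ G) (hF : ∀ L : CochainComplex V ℤ, L.Acyclic →
      HomologicalComplex.Acyclic ((F.mapHomologicalComplex (ComplexShape.up ℤ)).obj L))
    (T : CochainComplex W ℤ) [T.IsKInjective] :
    CochainComplex.IsKInjective ((G.mapHomologicalComplex (ComplexShape.up ℤ)).obj T) := by
  rw [CochainComplex.isKInjective_iff_rightOrthogonal]
  intro Y f hY
  obtain ⟨L, rfl⟩ := HomotopyCategory.quotient_obj_surjective Y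
  rw [HomotopyCategory.quotient_obj_mem_subcategoryAcyclic_iff_acyclic] at hY
  let adjK' := Groth.Agent.H4.KProj.adjK adj (ComplexShape.up ℤ)
  let f' : (HomotopyCategory.quotient V (ComplexShape.up ℤ)).obj L ⟶
      (G.mapHomotopyCategory (ComplexShape.up ℤ)).obj
        ((HomotopyCategory.quotient W (ComplexShape.up ℤ)).obj T) := f
  have h0 : (adjK'.homEquiv _ _).symm f' = 0 := by
    refine CochainComplex.IsKInjective.rightOrthogonal T _ ?_
    change HomotopyCategory.subcategoryAcyclic W
      ((HomotopyCategory.quotient W (ComplexShape.up ℤ)).obj
        ((F.mapHomologicalComplex (ComplexShape.up ℤ)).obj L))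
    rw [HomotopyCategory.quotient_obj_mem_subcategoryAcyclic_iff_acyclic]
    exact hF L hY
  have h1 : f' = 0 := by
    have := congrArg (adjK'.homEquiv _ _) h0
    rw [Equiv.apply_symm_apply] at this
    rw [this, Adjunction.homEquiv_unit, Functor.map_zero, comp_zero]
  exact h1

/-- an exact additive functor preserves acyclic complexes. -/
lemma acyclic_map (F : V ⥤ W) [F.Additive] [F.PreservesHomology] (K : CochainComplex V ℤ)
    (h : K.Acyclic) :
    HomologicalComplex.Acyclic ((F.mapHomologicalComplex (ComplexShape.up ℤ)).obj K) := by
  intro i
  have hi := h i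
  rw [HomologicalComplex.exactAt_iff] at hi ⊢
  exact hi.map F

end Abstract

/-- **S6514**: direct images along a flat morphism of schemes preserve K-injective complexes. -/
theorem main {X Y : Scheme.{u}} (f : X ⟶ Y) [Flat f]
    (I : CochainComplex X.Modules ℤ) (hI : I.IsKInjective) :
    CochainComplex.IsKInjective
      (((Scheme.Modules.pushforward f).mapHomologicalComplex (ComplexShape.up ℤ)).obj I) := by
  haveI := hI
  haveI : (Scheme.Modules.pullback f).Additive :=
    (Scheme.Modules.pullbackPushforwardAdjunction f).left_adjoint_additive
  haveI : (Scheme.Modules.pushforward f).Additive := inferInstance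
  haveI : PreservesFiniteLimits (Scheme.Modules.pullback f) :=
    Groth.Agent.H4.FlatPull1.preservesFiniteLimits_pullback_of_flat f
  haveI : PreservesColimits (Scheme.Modules.pullback f) :=
    (Scheme.Modules.pullbackPushforwardAdjunction f).leftAdjoint_preservesColimits
  haveI : PreservesFiniteColimits (Scheme.Modules.pullback f) := inferInstance
  haveI : (Scheme.Modules.pullback f).PreservesHomology := inferInstance
  exact isKInjective_map (Scheme.Modules.pullbackPushforwardAdjunction f)
    (fun L hL => acyclic_map (Scheme.Modules.pullback f) L hL) I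

end Groth.Agent.LD.KInjPush
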