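import Groth.Agent.Lib.Lead.Misc2.KRRReg3
import Groth.Agent.Lib.Lead.PN.Chi
import Groth.Agent.H4.PCS6
import Groth.Agent.H4.SFlat6
import Groth.Agent.Lib.Lead.MS.Flat2
import Groth.Agent.Lib.Lead.QC.LiftSqZero
import Groth.Agent.Lib.Lead.SC.LocFreeVanish
import Groth.Agent.H4.PSch5

/-!
# Castelnuovo–Mumford regularity on `P^n_T`: `F` regular ⇒ `F(m)` regular (S19428, S3754)

The Koszul complex of `P^n_ℤ` is pulled back to `P^n_T`, tensored with `F`, and the long exact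
sequences of the higher direct images are chased along it.
-/

set_option autoImplicit false
universe u
open CategoryTheory Limits AlgebraicGeometry MonoidalCategory

namespace Groth.Agent.LD.KRRKos

open Groth.Agent.LD.KRRReg

/-- an additive functor killing `Y` kills the finite coproducts of copies of `Y`. -/
lemma isZero_obj_sigma {C D : Type*} [Category C] [Category D] [Abelian C] [Preadditive D]
    (Φ : C ⥤ D) [Φ.Additive] (b : ℕ) (Y : C)
    (hY : IsZero (Φ.obj Y)) : IsZero (Φ.obj (∐ fun _ : Fin b => Y)) := by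
  haveI : HasFiniteBiproducts C := Abelian.hasFiniteBiproducts
  let f : Fin b → C := fun _ => Y
  have e : (∐ f) ≅ ⨁ f :=
    (colimit.isColimit _).coconePointUniqueUpToIso (biproduct.isColimit f)
  refine IsZero.of_iso ?_ (Φ.mapIso e)
  rw [IsZero.iff_id_eq_zero, ← Φ.map_id, ← biproduct.total, Φ.map_sum]
  refine Finset.sum_eq_zero (fun j _ => ?_)
  rw [Φ.map_comp]
  have h0 : Φ.map (biproduct.π f j) = 0 := hY.eq_of_tgt _ _
  rw [h0, zero_comp]

variable {n : ℕ} {T : Scheme.{u}}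

/-- the projection `P^n_T ⟶ P^n_ℤ`. -/
noncomputable abbrev qz (n : ℕ) (T : Scheme.{u}) :
    KRR.PY n T ⟶ Proj (CohB1.polyGrading n (ULift.{u} ℤ)) :=
  pullback.fst (CohB1.ProjSpace.toSpec n (ULift.{u} ℤ)) (specULiftZIsTerminal.from T)

/-- `M ↦ q^* M ⊗ F`. -/
noncomputable def Ψ (F : (KRR.PY n T).Modules) :
    (Proj (CohB1.polyGrading n (ULift.{u} ℤ))).Modules ⥤ (KRR.PY n T).Modules :=
  Scheme.Modules.pullback (qz n T) ⋙ (DCoh.tensorBi (X := KRR.PY n T)).flip.obj F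

instance (F : (KRR.PY n T).Modules) : (Ψ F).Additive := by
  unfold Ψ
  infer_instance

lemma Ψ_twist (F : (KRR.PY n T).Modules) (d : ℤ) :
    (Ψ F).obj (Twist.twist (CohB1.polyGrading n (ULift.{u} ℤ)) d) = KRR.twF n T d F := rfl

/-- `q^*(-) ⊗ F` preserves the short exact sequences with finite locally free cokernel. -/
theorem shortExact_map_Ψ (F : (KRR.PY n T).Modules)
    (S : ShortComplex (Proj (CohB1.polyGrading n (ULift.{u} ℤ))).Modules) (hS : S.ShortExact)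
    (h3 : FlatMod.IsFinLocFree S.X₃) : (S.map (Ψ F)).ShortExact := by
  haveI hm : Mono ((Scheme.Modules.pullback (qz n T)).map S.f) :=
    Groth.Agent.LD.QC.LiftSqZero.mono_pullback_map_of_shortExact (qz n T) hS h3
  have hS' : (S.map (Scheme.Modules.pullback (qz n T))).ShortExact :=
    { exact := hS.exact.map_of_epi_of_preservesCokernel (Scheme.Modules.pullback (qz n T))
        hS.epi_g inferInstance
      mono_f := hm
      epi_g := by
        haveI := hS.epi_g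
        exact (Scheme.Modules.pullback (qz n T)).map_epi _ }
  have hfl : ModSite.IsFlat (O := (KRR.PY n T).sheaf)
      (S.map (Scheme.Modules.pullback (qz n T))).X₃ :=
    (Groth.Agent.H4.SFlat6.isFlat_iff_stalkwise _).2
      (Groth.Agent.H4.FAmp2.isFlat_of_isFinLocFree _
        (Groth.Agent.LD.QC.isFinLocFree_pullback (qz n T) S.X₃ h3))
  exact Groth.Agent.LD.MS.shortExact_map_flip_of_flat (O := (KRR.PY n T).sheaf)
    _ hS' hfl F

section chase

variable (F : (KRR.PY n T).Modules)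

/-- one step of the chase. -/
lemma step (S : ShortComplex (Proj (CohB1.polyGrading n (ULift.{u} ℤ))).Modules)
    (hS : S.ShortExact) (h3 : FlatMod.IsFinLocFree S.X₃) (d : ℤ) (j : ℕ)
    (h2 : IsZero (RG n T j d ((Ψ F).obj S.X₂)))
    (h1 : IsZero (RG n T (j + 1) d ((Ψ F).obj S.X₁))) :
    IsZero (RG n T j d ((Ψ F).obj S.X₃)) :=
  isZero_RG_X₃ (S.map (Ψ F)) (shortExact_map_Ψ F S hS h3) d j h2 h1

/-- vanishing for the terms of the Koszul complex. -/
lemma isZero_RG_Ψ_of_iso (hreg : KRR.IsRegSheaf n T F) (j : ℕ) (hj : 1 ≤ j) (d e : ℤ)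
    (hde : e + d = -(j : ℤ)) (b : ℕ)
    (M : (Proj (CohB1.polyGrading n (ULift.{u} ℤ))).Modules)
    (φ : M ≅ ∐ fun _ : Fin b => Twist.twist (CohB1.polyGrading n (ULift.{u} ℤ)) e) :
    IsZero (RG n T j d ((Ψ F).obj M)) := by
  let Φ := Ψ F ⋙ Gd n T d ⋙ Coh.RpushAb (KRR.pr n T) j
  have h0 : IsZero (Φ.obj (Twist.twist (CohB1.polyGrading n (ULift.{u} ℤ)) e)) := by
    have h1 : IsZero (RG n T j (-(j : ℤ)) F) := hreg j hj
    exact IsZero.of_iso h1 (RGIso n T j d e (-(j : ℤ)) hde F)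
  exact IsZero.of_iso (isZero_obj_sigma Φ b _ h0) (Φ.mapIso φ)

/-- **Mumford**: a regular sheaf on `P^n_T` stays regular after twisting by `O(1)`. -/
theorem isRegSheaf_tw_one (hreg : KRR.IsRegSheaf n T F) :
    KRR.IsRegSheaf n T (KRR.twF n T 1 F) := by
  obtain ⟨C, hex, hiso, hzero⟩ :=
    Groth.Agent.LD.PN.exists_koszul_complex n (ULift.{u} ℤ) (-((n : ℤ) + 1))
  have hperf : DCoh.IsStrictlyPerfect C := by
    refine ⟨⟨0, (n : ℤ) + 1, hzero⟩, fun i => ?_⟩
    by_cases hi : i < 0 ∨ (n : ℤ) + 1 < i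
    · exact Groth.Agent.H4.PSch5.isFinLocFree_of_isZero (hzero i hi)
    · push_neg at hi
      obtain ⟨k, rfl⟩ := Int.eq_ofNat_of_zero_le hi.1
      have hk : k ≤ n + 1 := by omega
      obtain ⟨φ⟩ := hiso k hk
      exact Groth.Agent.LD.QC.isFinLocFree_of_iso φ.symm
        (Groth.Agent.LD.SC.isFinLocFree_sigma_of_isInvertible _
          (Groth.Agent.LD.PN.isInvertible_twist n (ULift.{u} ℤ) _) _)
  have hW : ∀ i : ℤ, -1 ≤ i → FlatMod.IsFinLocFree (kernel (C.d i (i + 1))) := fun i hi =>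
    Groth.Agent.H4.PCS6.isFinLocFree_kernel_d C hperf (-1) (fun i _ => hex i) i hi
  have hses : ∀ i : ℤ, (ShortComplex.mk (kernel.ι (C.d i (i + 1)))
      (kernel.lift (C.d (i + 1) (i + 1 + 1)) (C.d i (i + 1)) (C.d_comp_d _ _ _))
      (by apply (cancel_mono (kernel.ι (C.d (i + 1) (i + 1 + 1)))).mp; simp)).ShortExact :=
    fun i => Groth.Agent.LD.PN.shortExact_kernel_lift (C.d i (i + 1)) (C.d (i + 1) (i + 1 + 1))
      (C.d_comp_d _ _ _)
      ((HomologicalComplex.exactAt_iff' C i (i + 1) (i + 1 + 1) (by simp) (by simp)).1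
        (hex (i + 1)))
  intro qq hq
  have key : ∀ (i : ℕ) (z : ℤ), z = (i : ℤ) → ∀ m : ℕ, i + m = n + 1 →
      IsZero (RG n T (qq + m) (1 - (qq : ℤ)) ((Ψ F).obj (kernel (C.d z (z + 1))))) := by
    intro i
    induction i with
    | zero =>
      intro z hz m _
      obtain rfl : z = 0 := by simpa using hz
      have hex0 : (C.sc' (-1) 0 (0 + 1)).Exact :=
        (HomologicalComplex.exactAt_iff' C (-1) 0 (0 + 1) (by simp) (by simp)).1 (hex 0)
      haveI : Mono (C.d 0 (0 + 1)) :=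
        hex0.mono_g ((hzero (-1) (Or.inl (by norm_num))).eq_of_src _ _)
      have hW0 : IsZero (kernel (C.d 0 (0 + 1))) := isZero_kernel_of_mono _
      exact (Ψ F ⋙ Gd n T (1 - (qq : ℤ)) ⋙ Coh.RpushAb (KRR.pr n T) (qq + m)).map_isZero hW0
    | succ i ih =>
      intro z hz m hm
      obtain ⟨z', rfl⟩ : ∃ z', z = z' + 1 := ⟨z - 1, by ring⟩
      have hz' : z' = (i : ℤ) := by push_cast at hz; omega
      subst hz'
      have hi : i ≤ n + 1 := by omega
      obtain ⟨φ⟩ := hiso i hi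
      have h2 : IsZero (RG n T (qq + m) (1 - (qq : ℤ)) ((Ψ F).obj (C.X (i : ℤ)))) :=
        isZero_RG_Ψ_of_iso F hreg (qq + m) (by omega) (1 - (qq : ℤ)) (-((n : ℤ) + 1) + i)
          (by push_cast; omega) _ _ φ
      have h1 := ih (i : ℤ) rfl (m + 1) (by omega)
      exact step F _ (hses (i : ℤ)) (hW ((i : ℤ) + 1) (by omega)) (1 - (qq : ℤ)) (qq + m) h2 h1
  have hlast := key (n + 1) ((n + 1 : ℕ) : ℤ) rfl 0 rfl
  -- the last kernel is the last term, which is `O(0)`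
  have hz2 : IsZero (C.X (((n + 1 : ℕ) : ℤ) + 1)) :=
    hzero _ (Or.inr (by push_cast; omega))
  have hd0 : C.d ((n + 1 : ℕ) : ℤ) (((n + 1 : ℕ) : ℤ) + 1) = 0 := hz2.eq_of_tgt _ _
  obtain ⟨φ⟩ := hiso (n + 1) le_rfl
  haveI : Unique (Fin (Nat.choose (n + 1) (n + 1))) := by
    rw [Nat.choose_self]
    infer_instance
  let e : ℤ := -((n : ℤ) + 1) + ((n + 1 : ℕ) : ℤ)
  have ψ : kernel (C.d ((n + 1 : ℕ) : ℤ) (((n + 1 : ℕ) : ℤ) + 1)) ≅
      Twist.twist (CohB1.polyGrading n (ULift.{u} ℤ)) e :=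
    kernelIsoOfEq hd0 ≪≫ kernelZeroIsoSource ≪≫ φ ≪≫
      coproductUniqueIso (fun _ : Fin (Nat.choose (n + 1) (n + 1)) =>
        Twist.twist (CohB1.polyGrading n (ULift.{u} ℤ)) e)
  let Φ := Ψ F ⋙ Gd n T (1 - (qq : ℤ)) ⋙ Coh.RpushAb (KRR.pr n T) qq
  have h3 : IsZero (Φ.obj (Twist.twist (CohB1.polyGrading n (ULift.{u} ℤ)) e)) :=
    IsZero.of_iso hlast (Φ.mapIso ψ.symm)
  have h4 : IsZero (RG n T qq (1 + -(qq : ℤ)) F) :=
    IsZero.of_iso h3 (RGIso n T qq (1 - (qq : ℤ)) e (1 + -(qq : ℤ))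
      (by simp only [e]; push_cast; ring) F).symm
  exact IsZero.of_iso h4 (RGIso n T qq (-(qq : ℤ)) 1 (1 + -(qq : ℤ)) rfl F)

end chase

/-- regularity is invariant under isomorphisms. -/
theorem isRegSheaf_of_iso {F G : (KRR.PY n T).Modules} (e : F ≅ G)
    (h : KRR.IsRegSheaf n T F) : KRR.IsRegSheaf n T G := by
  intro i hi
  exact IsZero.of_iso (h i hi)
    ((Coh.RpushAb (KRR.pr n T) i).mapIso ((Gd n T (-(i : ℤ))).mapIso e.symm))

/-- `F(0) ≅ F`. -/
noncomputable def tw0Iso (F : (KRR.PY n T).Modules) : KRR.twF n T 0 F ≅ F :=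
  show ((DCoh.tensorBi (X := KRR.PY n T)).obj (Twist.twistOver n T 0)).obj F ≅ F from
    ((DCoh.tensorBi (X := KRR.PY n T)).mapIso (twistOverZeroIso n T)).app F ≪≫ unitIso.app F

/-- **S19428**: a regular sheaf on `P^n_T` stays regular after twisting by `O(m)`, `m ≥ 0`. -/
theorem main (F : (KRR.PY n T).Modules) (hreg : KRR.IsRegSheaf n T F) (m : ℕ) :
    KRR.IsRegSheaf n T (KRR.twF n T (m : ℤ) F) := by
  induction m with
  | zero =>
    show KRR.IsRegSheaf n T (KRR.twF n T (0 : ℤ) F)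
    exact isRegSheaf_of_iso (tw0Iso F).symm hreg
  | succ m ih =>
    exact isRegSheaf_of_iso (twIso n T 1 (m : ℤ) ((m + 1 : ℕ) : ℤ) (by push_cast; ring) F)
      (isRegSheaf_tw_one _ ih)

/-- **S3754**, second part: the higher direct images of a regular sheaf vanish. -/
theorem isZero_RpushAb (F : (KRR.PY n T).Modules) (hreg : KRR.IsRegSheaf n T F) (i : ℕ)
    (hi : 1 ≤ i) : IsZero ((Coh.RpushAb (KRR.pr n T) i).obj (Coh.toAb F)) := by
  have h : IsZero (RG n T i (-(i : ℤ)) (KRR.twF n T (i : ℤ) F)) := main F hreg i i hi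
  have h2 : IsZero (RG n T i 0 F) :=
    IsZero.of_iso h (RGIso n T i (-(i : ℤ)) (i : ℤ) 0 (by ring) F).symm
  exact IsZero.of_iso h2
    ((Coh.RpushAb (KRR.pr n T) i).mapIso ((Tf n T).mapIso (tw0Iso F).symm))

end Groth.Agent.LD.KRRKos
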