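import Mathlib
import Groth.Prelude.Def_KRR
import Groth.Agent.H4.LDS7
import Groth.Agent.H4.FAmp2
import Groth.Agent.Lib.Lead.PN.Main
import Groth.Agent.Lib.Lead.QC.PullInv
import Groth.Agent.Lib.Helper2.RDer7
import Groth.Agent.Lib.Lead.MS.PushLeftAdj
import Groth.Agent.Lib.Lead.QC.FiniteFree

/-!
# Castelnuovo–Mumford regular sheaves on `P^n_T` in short exact sequences (S19431)
-/

set_option autoImplicit false
universe u
open CategoryTheory Limits AlgebraicGeometry MonoidalCategory

namespace Groth.Agent.LD.KRRReg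

variable {X : Scheme.{u}}

/-- `M ⊗ - ≅ - ⊗ M`, naturally (sheafified braiding). -/
noncomputable def flipIso (M : X.Modules) :
    (DCoh.tensorBi (X := X)).obj M ≅ (DCoh.tensorBi (X := X)).flip.obj M :=
  NatIso.ofComponents (fun F => DCoh.shP.mapIso (β_ (DCoh.toP.obj M) (DCoh.toP.obj F))) (by
    intro F G f
    change DCoh.shP.map (DCoh.toP.obj M ◁ DCoh.toP.map f) ≫ DCoh.shP.map (β_ _ _).hom =
      DCoh.shP.map (β_ _ _).hom ≫ DCoh.shP.map (DCoh.toP.map f ▷ DCoh.toP.obj M)
    rw [← Functor.map_comp, ← Functor.map_comp, BraidedCategory.braiding_naturality_right])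

/-- `M ⊗ -` is exact for a flat module `M`. -/
theorem exact_tensorBi_obj (M : X.Modules) (hM : FlatMod.IsFlat M) :
    PreservesFiniteLimits ((DCoh.tensorBi (X := X)).obj M) ∧
      PreservesFiniteColimits ((DCoh.tensorBi (X := X)).obj M) := by
  obtain ⟨h1, h2⟩ := Groth.Agent.H4.LDS7.flatObj_of_isFlat M hM
  haveI := h1
  haveI := h2
  exact ⟨preservesFiniteLimits_of_natIso (flipIso M).symm,
    preservesFiniteColimits_of_natIso (flipIso M).symm⟩

/-- **S19431**: an extension of regular sheaves is regular. -/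
theorem isRegSheaf_X₂ (n : ℕ) (T : Scheme.{u}) (S : ShortComplex (KRR.PY n T).Modules)
    (hS : S.ShortExact) (hreg₁ : KRR.IsRegSheaf n T S.X₁) (hreg₃ : KRR.IsRegSheaf n T S.X₃) :
    KRR.IsRegSheaf n T S.X₂ := by
  intro i hi
  have hL : FlatMod.IsFlat (Twist.twistOver n T (-(i : ℤ))) :=
    Groth.Agent.H4.FAmp2.isFlat_of_isFinLocFree _
      (Groth.Agent.LD.QC.isFinLocFree_of_isInvertible _
        (Groth.Agent.LD.QC.isInvertible_pullback _
          (Groth.Agent.LD.PN.isInvertible_twist n (ULift.{u} ℤ) _)))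
  obtain ⟨h1, h2⟩ := exact_tensorBi_obj _ hL
  haveI := h1
  haveI := h2
  let Tf : (KRR.PY n T).Modules ⥤
      Sheaf (Opens.grothendieckTopology (KRR.PY n T)) AddCommGrpCat.{u} :=
    SheafOfModules.toSheaf.{u} (KRR.PY n T).ringCatSheaf
  haveI hc : PreservesFiniteColimits Tf :=
    (PreservesColimitsOfSize.preservesFiniteColimits
      (SheafOfModules.toSheaf.{u} (KRR.PY n T).ringCatSheaf) :)
  haveI hl : PreservesFiniteLimits Tf :=
    (inferInstance : PreservesFiniteLimits (SheafOfModules.toSheaf.{u} (KRR.PY n T).ringCatSheaf))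
  let G : (KRR.PY n T).Modules ⥤ Sheaf (Opens.grothendieckTopology (KRR.PY n T)) AddCommGrpCat.{u} :=
    (DCoh.tensorBi (X := KRR.PY n T)).obj (Twist.twistOver n T (-(i : ℤ))) ⋙ Tf
  haveI : PreservesFiniteLimits G := comp_preservesFiniteLimits _ _
  haveI : PreservesFiniteColimits G := comp_preservesFiniteColimits _ _
  have hS' : (S.map G).ShortExact := hS.map_of_exact G
  have hex := Groth.Agent.H2.RDer.LES.exact₂ (Coh.pushAb (KRR.pr n T)) hS' i
  exact hex.isZero_of_both_zeros ((hreg₁ i hi).eq_of_src _ _) ((hreg₃ i hi).eq_of_tgt _ _)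

end Groth.Agent.LD.KRRReg
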