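import Groth.Agent.Lib.Lead.Misc2.KRRReg
import Groth.Agent.Lib.Lead.PN.SerreVanish
import Groth.Agent.Lib.Lead.QC.PullInv
import Groth.Agent.Lib.Lead.QC.TwistEquiv
import Groth.Agent.Lib.Lead.MS.Assoc
import Groth.Agent.Lib.Lead.TW.Zero

/-!
# Castelnuovo–Mumford regular sheaves on `P^n_T` in short exact sequences (S19432, S19433)
-/

set_option autoImplicit false
universe u
open CategoryTheory Limits AlgebraicGeometry MonoidalCategory

namespace Groth.Agent.LD.KRRReg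

section Assoc
variable {X : Scheme.{u}}

/-- `L ⊗ (L' ⊗ F) ≅ (L' ⊗ L) ⊗ F`. -/
noncomputable def assocIso (L L' F : X.Modules) :
    ((DCoh.tensorBi (X := X)).obj L).obj (((DCoh.tensorBi (X := X)).obj L').obj F) ≅
      ((DCoh.tensorBi (X := X)).obj (CohB1.tensorMod L' L)).obj F :=
  (flipIso L).app _ ≪≫
  ((DCoh.tensorBi (X := X)).flip.obj L).mapIso ((flipIso L').app F) ≪≫
  (show ((DCoh.tensorBi (X := X)).flip.obj L).obj (((DCoh.tensorBi (X := X)).flip.obj L').obj F) ≅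
      ((DCoh.tensorBi (X := X)).flip.obj (CohB1.tensorMod L' L)).obj F from
    (Groth.Agent.LD.MS.flipTensorIso (O := X.sheaf) L' L).symm.app F) ≪≫
  (flipIso (CohB1.tensorMod L' L)).symm.app F

/-- `O ⊗ - ≅ id`. -/
noncomputable def unitIso : (DCoh.tensorBi (X := X)).obj (Groth.Agent.LD.QC.unitMod X) ≅ 𝟭 X.Modules :=
  flipIso _ ≪≫ (show (DCoh.tensorBi (X := X)).flip.obj (Groth.Agent.LD.QC.unitMod X) ≅ 𝟭 X.Modules from
    Groth.Agent.LD.QC.twFUnit)

end Assoc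

variable (n : ℕ) (T : Scheme.{u})

/-- `O(a) ⊗ O(b) ≅ O(c)` on `P^n_T`. -/
noncomputable def twistOverMulIso (a b c : ℤ) (h : a + b = c) :
    CohB1.tensorMod (Twist.twistOver n T a) (Twist.twistOver n T b) ≅ Twist.twistOver n T c :=
  (Groth.Agent.LD.QC.pbTensorIso _ _ _ (Groth.Agent.LD.PN.isInvertible_twist n (ULift.{u} ℤ) a)
      (Groth.Agent.LD.PN.isInvertible_twist n (ULift.{u} ℤ) b)).symm ≪≫
    (Scheme.Modules.pullback _).mapIso (Groth.Agent.LD.PN.twistMulIso n (ULift.{u} ℤ) a b c h)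

/-- `O(0) ≅ O` on `P^n_T`. -/
noncomputable def twistOverZeroIso : Twist.twistOver n T 0 ≅ Groth.Agent.LD.QC.unitMod (KRR.PY n T) :=
  (Scheme.Modules.pullback _).mapIso
      (Groth.Agent.LD.TW.twistZeroIso (CohB1.polyGrading n (ULift.{u} ℤ))) ≪≫
    Groth.Agent.LD.QC.pbUnitIso _

/-- `(F(b))(a) ≅ F(c)` for `b + a = c`. -/
noncomputable def twIso (a b c : ℤ) (h : b + a = c) (F : (KRR.PY n T).Modules) :
    KRR.twF n T a (KRR.twF n T b F) ≅ KRR.twF n T c F :=
  show ((DCoh.tensorBi (X := KRR.PY n T)).obj (Twist.twistOver n T a)).obj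
      (((DCoh.tensorBi (X := KRR.PY n T)).obj (Twist.twistOver n T b)).obj F) ≅
    ((DCoh.tensorBi (X := KRR.PY n T)).obj (Twist.twistOver n T c)).obj F from
  assocIso _ _ F ≪≫
    ((DCoh.tensorBi (X := KRR.PY n T)).mapIso (twistOverMulIso n T b a c h)).app F

/-- the underlying-abelian-sheaf functor. -/
noncomputable abbrev Tf : (KRR.PY n T).Modules ⥤
    Sheaf (Opens.grothendieckTopology (KRR.PY n T)) AddCommGrpCat.{u} :=
  SheafOfModules.toSheaf.{u} (KRR.PY n T).ringCatSheaf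

instance : PreservesFiniteColimits (Tf n T) :=
  (PreservesColimitsOfSize.preservesFiniteColimits
    (SheafOfModules.toSheaf.{u} (KRR.PY n T).ringCatSheaf) :)

instance : PreservesFiniteLimits (Tf n T) :=
  (inferInstance : PreservesFiniteLimits (SheafOfModules.toSheaf.{u} (KRR.PY n T).ringCatSheaf))

/-- `F ↦` the abelian sheaf underlying `F(d)`. -/
noncomputable def Gd (d : ℤ) : (KRR.PY n T).Modules ⥤
    Sheaf (Opens.grothendieckTopology (KRR.PY n T)) AddCommGrpCat.{u} :=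
  (DCoh.tensorBi (X := KRR.PY n T)).obj (Twist.twistOver n T d) ⋙ Tf n T

instance (d : ℤ) : (Gd n T d).Additive := by
  unfold Gd
  infer_instance

lemma Gd_obj (d : ℤ) (F : (KRR.PY n T).Modules) :
    (Gd n T d).obj F = Coh.toAb (KRR.twF n T d F) := rfl

theorem shortExact_map_Gd (S : ShortComplex (KRR.PY n T).Modules) (hS : S.ShortExact) (d : ℤ) :
    (S.map (Gd n T d)).ShortExact := by
  have hL : FlatMod.IsFlat (Twist.twistOver n T d) :=
    Groth.Agent.H4.FAmp2.isFlat_of_isFinLocFree _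
      (Groth.Agent.LD.QC.isFinLocFree_of_isInvertible _
        (Groth.Agent.LD.QC.isInvertible_pullback _
          (Groth.Agent.LD.PN.isInvertible_twist n (ULift.{u} ℤ) _)))
  obtain ⟨h1, h2⟩ := exact_tensorBi_obj _ hL
  haveI := h1
  haveI := h2
  haveI : PreservesFiniteLimits (Gd n T d) := comp_preservesFiniteLimits _ _
  haveI : PreservesFiniteColimits (Gd n T d) := comp_preservesFiniteColimits _ _
  exact hS.map_of_exact (Gd n T d)

/-- `R^j p_*` of the abelian sheaf underlying `F(d)`. -/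
noncomputable abbrev RG (j : ℕ) (d : ℤ) (F : (KRR.PY n T).Modules) :
    Sheaf (Opens.grothendieckTopology T) AddCommGrpCat.{u} :=
  (Coh.RpushAb (KRR.pr n T) j).obj ((Gd n T d).obj F)

lemma isRegSheaf_iff (F : (KRR.PY n T).Modules) :
    KRR.IsRegSheaf n T F ↔ ∀ i : ℕ, 1 ≤ i → IsZero (RG n T i (-(i : ℤ)) F) := Iff.rfl

/-- `R^j p_* ((F(b))(a)) ≅ R^j p_* (F(c))`. -/
noncomputable def RGIso (j : ℕ) (a b c : ℤ) (h : b + a = c) (F : (KRR.PY n T).Modules) :
    RG n T j a (KRR.twF n T b F) ≅ RG n T j c F :=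
  (Coh.RpushAb (KRR.pr n T) j).mapIso ((Tf n T).mapIso (twIso n T a b c h F))

variable {n T}
variable (S : ShortComplex (KRR.PY n T).Modules) (hS : S.ShortExact)

include hS in
theorem isZero_RG_X₃ (d : ℤ) (j : ℕ) (h2 : IsZero (RG n T j d S.X₂))
    (h1 : IsZero (RG n T (j + 1) d S.X₁)) : IsZero (RG n T j d S.X₃) := by
  have hex := Groth.Agent.H2.RDer.LES.exact₃ (Coh.pushAb (KRR.pr n T))
    (shortExact_map_Gd n T S hS d) j
  exact hex.isZero_of_both_zeros (h2.eq_of_src _ _) (h1.eq_of_tgt _ _)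

include hS in
theorem isZero_RG_X₁ (d : ℤ) (j : ℕ) (h3 : IsZero (RG n T j d S.X₃))
    (h2 : IsZero (RG n T (j + 1) d S.X₂)) : IsZero (RG n T (j + 1) d S.X₁) := by
  have hex := Groth.Agent.H2.RDer.LES.exact₁ (Coh.pushAb (KRR.pr n T))
    (shortExact_map_Gd n T S hS d) j
  exact hex.isZero_of_both_zeros (h3.eq_of_src _ _) (h2.eq_of_tgt _ _)

include hS in
/-- **S19432**. -/
theorem isRegSheaf_X₃ (hreg₂ : KRR.IsRegSheaf n T S.X₂)
    (hreg₁ : KRR.IsRegSheaf n T (KRR.twF n T 1 S.X₁)) : KRR.IsRegSheaf n T S.X₃ := by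
  intro i hi
  refine isZero_RG_X₃ S hS (-(i : ℤ)) i (hreg₂ i hi) ?_
  have h1 : IsZero (RG n T (i + 1) (-((i + 1 : ℕ) : ℤ)) (KRR.twF n T 1 S.X₁)) :=
    hreg₁ (i + 1) (by omega)
  exact IsZero.of_iso h1
    (RGIso n T (i + 1) (-((i + 1 : ℕ) : ℤ)) 1 (-(i : ℤ)) (by push_cast; ring) S.X₁).symm

end Groth.Agent.LD.KRRReg
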