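import Groth.Agent.Lib.Lead.Misc2.KRRReg2
import Groth.Agent.Lib.Lead.SC.RPush

/-!
# Castelnuovo–Mumford regular sheaves on `P^n_T` in short exact sequences (S19433)
-/

set_option autoImplicit false
universe u
open CategoryTheory Limits AlgebraicGeometry MonoidalCategory

namespace Groth.Agent.LD.KRRReg

lemma epi_map_of_natIso {C D : Type*} [Category C] [Category D] {F G : C ⥤ D} (e : F ≅ G)
    {X Y : C} (g : X ⟶ Y) (h : Epi (G.map g)) : Epi (F.map g) := by
  have : F.map g = e.hom.app X ≫ G.map g ≫ e.inv.app Y := by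
    rw [← Category.assoc, ← e.hom.naturality, Category.assoc, Iso.hom_inv_id_app,
      Category.comp_id]
  rw [this]
  infer_instance

variable (n : ℕ) (T : Scheme.{u})

/-- `Gd 0 ≅ Tf`. -/
noncomputable def GdZeroIso : Gd n T 0 ≅ Tf n T :=
  Functor.isoWhiskerRight
    ((DCoh.tensorBi (X := KRR.PY n T)).mapIso (twistOverZeroIso n T) ≪≫ unitIso) (Tf n T) ≪≫
    Functor.leftUnitor _

/-- the underlying-abelian-sheaf functor on the base. -/
noncomputable abbrev TfT : T.Modules ⥤ Sheaf (Opens.grothendieckTopology T) AddCommGrpCat.{u} :=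
  SheafOfModules.toSheaf.{u} T.ringCatSheaf

instance : PreservesFiniteColimits (TfT T) :=
  (PreservesColimitsOfSize.preservesFiniteColimits (SheafOfModules.toSheaf.{u} T.ringCatSheaf) :)

variable {n T}
variable (S : ShortComplex (KRR.PY n T).Modules) (hS : S.ShortExact)

theorem epi_R0 (hepi : Epi ((Scheme.Modules.pushforward (KRR.pr n T)).map S.g)) :
    Epi (((Coh.pushAb (KRR.pr n T)).rightDerived 0).map ((Gd n T 0).map S.g)) := by
  haveI : PreservesFiniteLimits (Coh.pushAb (KRR.pr n T)) := by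
    haveI : PreservesLimits (Coh.pushAb (KRR.pr n T)) :=
      (Adjunction.ofIsRightAdjoint _).rightAdjoint_preservesLimits
    infer_instance
  have e : Gd n T 0 ⋙ (Coh.pushAb (KRR.pr n T)).rightDerived 0 ≅
      Tf n T ⋙ Coh.pushAb (KRR.pr n T) :=
    Functor.isoWhiskerRight (GdZeroIso n T) _ ≪≫
      Functor.isoWhiskerLeft _ (Functor.rightDerivedZeroIsoSelf _)
  refine epi_map_of_natIso e S.g ?_
  haveI := hepi
  have h : Epi ((TfT T).map ((Scheme.Modules.pushforward (KRR.pr n T)).map S.g)) :=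
    (TfT T).map_epi _
  exact h

include hS in
/-- **S19433**. -/
theorem isRegSheaf_tw_X₁ (hreg₂ : KRR.IsRegSheaf n T (KRR.twF n T 1 S.X₂))
    (hreg₃ : KRR.IsRegSheaf n T S.X₃)
    (hepi : Epi ((Scheme.Modules.pushforward (KRR.pr n T)).map S.g)) :
    KRR.IsRegSheaf n T (KRR.twF n T 1 S.X₁) := by
  intro i hi
  have hc : (1 : ℤ) + (-(i : ℤ)) = 1 - (i : ℤ) := by ring
  refine IsZero.of_iso ?_ (RGIso n T i (-(i : ℤ)) 1 (1 - (i : ℤ)) hc S.X₁)
  have h2 : IsZero (RG n T i (1 - (i : ℤ)) S.X₂) :=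
    IsZero.of_iso (hreg₂ i hi) (RGIso n T i (-(i : ℤ)) 1 (1 - (i : ℤ)) hc S.X₂).symm
  obtain ⟨j, rfl⟩ : ∃ j, i = j + 1 := ⟨i - 1, by omega⟩
  rcases j with _ | j
  · have hd : (1 - ((0 + 1 : ℕ) : ℤ)) = 0 := by norm_num
    rw [hd] at h2 ⊢
    have hex1 := Groth.Agent.H2.RDer.LES.exact₁ (Coh.pushAb (KRR.pr n T))
      (shortExact_map_Gd n T S hS 0) 0
    have hex3 := Groth.Agent.H2.RDer.LES.exact₃ (Coh.pushAb (KRR.pr n T))
      (shortExact_map_Gd n T S hS 0) 0
    have hδ : Groth.Agent.H2.RDer.LES.δ (Coh.pushAb (KRR.pr n T))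
        (shortExact_map_Gd n T S hS 0) 0 = 0 :=
      hex3.epi_f_iff.mp (by exact epi_R0 S hepi)
    exact hex1.isZero_of_both_zeros hδ (h2.eq_of_tgt _ _)
  · refine isZero_RG_X₁ S hS _ (j + 1) ?_ h2
    have h3 := hreg₃ (j + 1) (by omega)
    have hd : (1 - ((j + 1 + 1 : ℕ) : ℤ)) = -((j + 1 : ℕ) : ℤ) := by push_cast; ring
    rw [hd]
    exact h3

end Groth.Agent.LD.KRRReg
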