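import Groth.Agent.Lib.Lead.Misc2.AssDec2
import Groth.Agent.Lib.Lead.DF.Ext
import Groth.Agent.Lib.Lead.DF.DevIrr
import Groth.Agent.Lib.Lead.QC.SubSup

/-!
# Locally finite intersections of coprimary kernels (lead): S0816

For a coherent module `E` on a locally Noetherian scheme with a coprimary decomposition
`q_x : E ⟶ G_x` (`x ∈ Ass E`, from `AssDec.s2520`) and a set `Φ` of points, the kernel of
`E ⟶ ∏_{x ∈ Φ} G_x` is a coherent submodule (quasi-coherence is checked with the localisation
criterion; only finitely many `G_x` have sections over a given affine open).  It agrees with `E`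
over the opens missing `Φ` and meets trivially every submodule supported inside the closure of `Φ`.

Application: extension of a morphism `F|_U ⟶ G|_U` of coherent modules on a locally Noetherian
scheme to a coherent submodule of `F` (no quasi-compactness).
-/

set_option autoImplicit false
universe u
open CategoryTheory Limits AlgebraicGeometry TopologicalSpace Opposite

namespace Groth.Agent.LD.LocFinKer
open Groth.Agent.LD.QC Groth.Agent.LD.AssDec

variable {X : Scheme.{u}}

/-- sections of a product of modules are determined by their components. -/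
lemma pi_section_ext {ι : Type u} (G : ι → X.Modules) (U : X.Opens) (z z' : Γ(∏ᶜ G, U))
    (h : ∀ i, (Pi.π G i).app U z = (Pi.π G i).app U z') : z = z' := by
  have hD : IsLimit ((SheafOfModules.evaluation X.ringCatSheaf (op U)).mapCone
      (limit.cone (Discrete.functor G))) :=
    isLimitOfPreserves (SheafOfModules.evaluation X.ringCatSheaf (op U)) (limit.isLimit _)
  refine Concrete.isLimit_ext
    (Discrete.functor G ⋙ SheafOfModules.evaluation X.ringCatSheaf (op U)) hD z z' ?_
  rintro ⟨i⟩
  exact h i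

lemma app_zero {M N : X.Modules} (φ : M ⟶ N) (W : X.Opens) : φ.app W 0 = 0 :=
  map_zero (appLinear φ W)

section Ass
variable [IsLocallyNoetherian X]

/-- an affine open contains only finitely many associated points of a coherent module. -/
lemma finite_assPoints_affine (F : X.Modules) [F.IsQuasicoherent] (hF : F.IsFiniteType)
    {U : X.Opens} (hU : IsAffineOpen U) : {x : X | x ∈ U ∧ Curv2.IsAssPoint F x}.Finite := by
  haveI : IsNoetherianRing Γ(X, U) := IsLocallyNoetherian.component_noetherian ⟨U, hU⟩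
  haveI : Module.Finite Γ(X, U) Γ(F, U) := finite_sections_of_isFiniteType F hF hU
  have hfinP : (associatedPrimes Γ(X, U) Γ(F, U)).Finite := associatedPrimes.finite _ _
  have hfinQ : (PrimeSpectrum.asIdeal ⁻¹' (associatedPrimes Γ(X, U) Γ(F, U))).Finite :=
    hfinP.preimage (fun p _ q _ h => PrimeSpectrum.ext h)
  refine (hfinQ.image (fun p => hU.fromSpec p)).subset ?_
  rintro x ⟨hxU, hx⟩
  refine ⟨hU.primeIdealOf ⟨x, hxU⟩, ?_, hU.fromSpec_primeIdealOf ⟨x, hxU⟩⟩
  exact (Groth.Agent.H2.DepthS1.isAssPoint_iff F hU x hxU).mp hx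

/-- a module whose only associated point is `x` has no sections over the opens missing `x`. -/
lemma section_eq_zero_of_ass_singleton (G : X.Modules) [G.IsQuasicoherent] (x : X)
    (hA : AssSch.Ass G = {x}) {W : X.Opens} (hx : x ∉ W) (s : Γ(G, W)) : s = 0 := by
  have haff : ∀ (V : X.Opens), IsAffineOpen V → x ∉ V → ∀ t : Γ(G, V), t = 0 := by
    intro V hV hxV t
    by_contra ht
    obtain ⟨y, hyV, hy, -⟩ := Groth.Agent.LD.NegTwist.exists_assPoint_of_ne_zero G hV t ht
    have hy' : y ∈ AssSch.Ass G := hy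
    rw [hA] at hy'
    have hyx : y = x := hy'
    exact hxV (hyx ▸ hyV)
  apply section_ext_of_cover G (fun V : {V : X.affineOpens // V.1 ≤ W} => V.1.1)
    (fun V => V.2) (le_iSup_affineOpens W) s 0
  intro V
  rw [map_zero]
  exact haff V.1.1 V.1.2 (fun h => hx (V.2 h)) _

end Ass

section Main
variable (E : X.Modules) (G : ↥(AssSch.Ass E) → X.Modules) (q : ∀ x, E ⟶ G x) (Φ : Set X)

/-- the associated points of `E` lying in `Φ`. -/
abbrev Idx : Type u := {x : ↥(AssSch.Ass E) // x.1 ∈ Φ}

/-- the map to the product of the quotients indexed by `Φ`. -/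
noncomputable def piMap : E ⟶ ∏ᶜ (fun i : Idx E Φ => G i.1) := Pi.lift (fun i => q i.1)

lemma piMap_π (i : Idx E Φ) :
    piMap E G q Φ ≫ Pi.π (fun i : Idx E Φ => G i.1) i = q i.1 := by
  unfold piMap
  exact Pi.lift_π _ _

/-- the intersection of the kernels of the quotients indexed by `Φ`. -/
noncomputable def sub : X.Modules := kernel (piMap E G q Φ)

/-- its inclusion. -/
noncomputable def subι : sub E G q Φ ⟶ E := kernel.ι (piMap E G q Φ)

instance : Mono (subι E G q Φ) := inferInstanceAs (Mono (kernel.ι (piMap E G q Φ)))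

lemma subι_comp (i : Idx E Φ) : subι E G q Φ ≫ q i.1 = 0 := by
  have h : subι E G q Φ ≫ piMap E G q Φ = 0 := kernel.condition (piMap E G q Φ)
  rw [← piMap_π E G q Φ i, ← Category.assoc, h, zero_comp]

lemma mem_sub_iff (W : X.Opens) (s : Γ(E, W)) :
    (∃ t : Γ(sub E G q Φ, W), (subι E G q Φ).app W t = s) ↔
      ∀ i : Idx E Φ, (q i.1).app W s = 0 := by
  unfold sub subι
  rw [mem_range_kernel_ι_iff]
  constructor
  · intro h i
    have h1 : (piMap E G q Φ ≫ Pi.π (fun i : Idx E Φ => G i.1) i).app W s = 0 := by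
      show (Pi.π (fun i : Idx E Φ => G i.1) i).app W ((piMap E G q Φ).app W s) = 0
      rw [h]
      exact app_zero _ W
    rwa [piMap_π] at h1
  · intro h
    apply pi_section_ext
    intro i
    rw [app_zero]
    show (piMap E G q Φ ≫ Pi.π (fun i : Idx E Φ => G i.1) i).app W s = 0
    rw [piMap_π]
    exact h i

variable [IsLocallyNoetherian X]
variable (hE : Coh.IsCoh E) (hG : ∀ x, Coh.IsCoh (G x)) (hA : ∀ x, AssSch.Ass (G x) = {x.1})

include hE hG hA in
/-- **the intersection is quasi-coherent.** -/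
theorem sub_qc : (sub E G q Φ).IsQuasicoherent := by
  haveI := hE.1
  classical
  apply qc_of_surj_inj
  · intro U hU f t
    obtain ⟨n, s, hs⟩ := affine_surj E hU f ((subι E G q Φ).app (X.basicOpen f) t)
    have hq0 : ∀ i : Idx E Φ,
        (q i.1).app (X.basicOpen f) ((subι E G q Φ).app (X.basicOpen f) t) = 0 :=
      (mem_sub_iff E G q Φ (X.basicOpen f) _).mp ⟨t, rfl⟩
    have hm : ∀ i : Idx E Φ, ∃ m : ℕ, f ^ m • (q i.1).app U s = 0 := by
      intro i
      haveI := (hG i.1).1
      apply affine_inj (G i.1) hU f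
      rw [← app_res (q i.1) (X.basicOpen_le f) s, hs, Scheme.Modules.Hom.app_smul, hq0 i,
        smul_zero]
    choose m hm using hm
    have hfin : {i : Idx E Φ | i.1.1 ∈ U}.Finite := by
      have h1 := finite_assPoints_affine E hE.2 hU
      have hinj : Function.Injective (fun i : Idx E Φ => i.1.1) :=
        fun a b h => Subtype.ext (Subtype.ext h)
      refine Set.Finite.subset (h1.preimage hinj.injOn) ?_
      intro i hi
      exact ⟨hi, i.1.2⟩
    obtain ⟨M, hM⟩ : ∃ M : ℕ, ∀ i ∈ hfin.toFinset, m i ≤ M :=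
      ⟨hfin.toFinset.sup m, fun i hi => Finset.le_sup hi⟩
    have hz : ∀ i : Idx E Φ, (q i.1).app U (f ^ M • s) = 0 := by
      intro i
      rw [Scheme.Modules.Hom.app_smul]
      by_cases hi : i.1.1 ∈ U
      · have hle : m i ≤ M := hM i (hfin.mem_toFinset.mpr hi)
        obtain ⟨k, hk⟩ := Nat.exists_eq_add_of_le hle
        rw [hk, pow_add, mul_comm, mul_smul, hm i, smul_zero]
      · haveI := (hG i.1).1
        rw [section_eq_zero_of_ass_singleton (G i.1) i.1.1 (hA i.1) hi ((q i.1).app U s),
          smul_zero]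
    obtain ⟨t', ht'⟩ := (mem_sub_iff E G q Φ U (f ^ M • s)).mpr hz
    refine ⟨M + n, t', ?_⟩
    apply mono_app (subι E G q Φ) (X.basicOpen f)
    rw [app_res, ht', Scheme.Modules.map_smul, map_pow, hs, Scheme.Modules.Hom.app_smul,
      smul_smul, ← pow_add]
  · intro U hU f s hs0
    have h1 : E.presheaf.map (homOfLE (X.basicOpen_le f)).op ((subι E G q Φ).app U s) = 0 := by
      rw [← app_res, hs0]
      exact app_zero _ _
    obtain ⟨n, hn⟩ := affine_inj E hU f _ h1
    refine ⟨n, mono_app (subι E G q Φ) U ?_⟩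
    rw [Scheme.Modules.Hom.app_smul, hn]
    exact (app_zero _ _).symm

include hE hG hA in
/-- **the intersection is coherent.** -/
theorem sub_coh : Coh.IsCoh (sub E G q Φ) := by
  have hq := sub_qc E G q Φ hE hG hA
  exact ⟨hq, isFiniteType_of_mono (subι E G q Φ) hq hE.1 hE.2⟩

include hG hA in
/-- a morphism to the intersection from a module without sections over the opens inside `W`,
where `W` contains the associated points outside `Φ`, is zero. -/
theorem comp_subι_eq_zero
    (hm : ∀ (T : X.Modules) (a b : T ⟶ E), (∀ x, a ≫ q x = b ≫ q x) → a = b)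
    (W : X.Opens) (hΦ : ∀ x : ↥(AssSch.Ass E), x.1 ∉ Φ → x.1 ∈ W)
    {T : X.Modules} (c : T ⟶ sub E G q Φ)
    (hT : ∀ (V : X.Opens), V ≤ W → ∀ t : Γ(T, V), t = 0) : c = 0 := by
  rw [← cancel_mono (subι E G q Φ), zero_comp]
  apply hm
  intro x
  rw [zero_comp]
  by_cases hx : x.1 ∈ Φ
  · rw [Category.assoc, subι_comp E G q Φ ⟨x, hx⟩, comp_zero]
  · haveI := (hG x).1
    refine eq_zero_of_vanishOn W ?_ hT _
    rw [hA x]
    exact Set.singleton_subset_iff.mpr (hΦ x hx)

include hG hA in
/-- the intersection agrees with `E` over the opens missing `Φ`. -/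
theorem subι_app_bijective (W : X.Opens) (hW : ∀ x ∈ Φ, x ∉ W) :
    Function.Bijective ((subι E G q Φ).app W) := by
  refine ⟨mono_app _ W, fun s => ?_⟩
  apply (mem_sub_iff E G q Φ W s).mpr
  intro i
  haveI := (hG i.1).1
  exact section_eq_zero_of_ass_singleton (G i.1) i.1.1 (hA i.1) (hW _ i.2) _

include hG hA in
theorem isIso_restrict_subι (U : X.Opens) (hΦU : ∀ x ∈ Φ, x ∉ U) :
    IsIso ((Scheme.Modules.restrictFunctor U.ι).map (subι E G q Φ)) := by
  apply isIso_of_bijective_app
  intro W'
  refine subι_app_bijective E G q Φ hG hA (U.ι ''ᵁ W') (fun x hx hxW => hΦU x hx ?_)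
  have h1 := U.ι.image_le_opensRange W' hxW
  rwa [Scheme.Opens.opensRange_ι] at h1

end Main

section Extend

section Graph
variable {Y : Scheme.{u}} (j : Y ⟶ X) [IsOpenImmersion j]

local notation "Lj" => Scheme.Modules.restrictFunctor j
local notation "adjj" => Scheme.Modules.restrictAdjunction j

/-- the graph construction (as in `DF.exists_pullback_extension`), with joint monicity. -/
theorem exists_pullback_extension' [QuasiCompact j] (A B : X.Modules) (hA : A.IsQuasicoherent)
    (hB : B.IsQuasicoherent)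
    (φ : (Scheme.Modules.restrictFunctor j).obj A ⟶ (Scheme.Modules.restrictFunctor j).obj B) :
    ∃ (P : X.Modules) (p₁ : P ⟶ A) (p₂ : P ⟶ B), P.IsQuasicoherent ∧
      IsIso ((Scheme.Modules.restrictFunctor j).map p₁) ∧
      (Scheme.Modules.restrictFunctor j).map p₂ =
        (Scheme.Modules.restrictFunctor j).map p₁ ≫ φ ∧ Mono (biprod.lift p₁ p₂) := by
  haveI := hA
  haveI := hB
  haveI := qc_restrict j B
  have hpq : ((Scheme.Modules.pushforward j).obj (B.restrict j)).IsQuasicoherent :=
    qc_pushforward j (B.restrict j)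
  refine ⟨pullback ((adjj).homEquiv A ((Lj).obj B) φ) ((adjj).unit.app B),
    pullback.fst ((adjj).homEquiv A ((Lj).obj B) φ) ((adjj).unit.app B),
    pullback.snd ((adjj).homEquiv A ((Lj).obj B) φ) ((adjj).unit.app B), ?_, ?_, ?_, ?_⟩
  · refine qc_limit (cospan ((adjj).homEquiv A ((Lj).obj B) φ) ((adjj).unit.app B)) ?_
    rintro (_ | _ | _)
    · exact hpq
    · exact hA
    · exact hB
  · haveI : IsIso ((Lj).map ((adjj).unit.app B)) := by
      have h := (adjj).left_triangle_components B
      haveI : IsIso ((Lj).map ((adjj).unit.app B) ≫ (adjj).counit.app ((Lj).obj B)) := by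
        rw [h]; exact IsIso.id _
      exact IsIso.of_isIso_comp_right _ ((adjj).counit.app ((Lj).obj B))
    have hpb := (IsPullback.of_hasPullback ((adjj).homEquiv A ((Lj).obj B) φ) ((adjj).unit.app B)).map Lj
    exact hpb.isIso_fst_of_isIso
  · have h2 := (adjj).homEquiv_naturality_left_symm
      (pullback.fst ((adjj).homEquiv A ((Lj).obj B) φ) ((adjj).unit.app B)) ((adjj).homEquiv A ((Lj).obj B) φ)
    rw [Equiv.symm_apply_apply] at h2
    rw [← h2, pullback.condition, Adjunction.homEquiv_counit]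
    simp
  · constructor
    intro Z a b h
    apply pullback.hom_ext
    · have h1 := congrArg (fun k => k ≫ biprod.fst) h
      simpa using h1
    · have h1 := congrArg (fun k => k ≫ biprod.snd) h
      simpa using h1

end Graph

/-- **extension of a morphism over an open of a locally Noetherian scheme** (no quasi-compactness):
a morphism `F|_U ⟶ G|_U` of coherent modules extends to a coherent submodule of `F` agreeing with
`F` over `U`. -/
theorem s0816 (X : Scheme.{u}) [IsLocallyNoetherian X] (F G : X.Modules)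
    (hF : Coh.IsCoh F) (hG : Coh.IsCoh G) (U : X.Opens)
    (φ : (Scheme.Modules.restrictFunctor U.ι).obj F ⟶ (Scheme.Modules.restrictFunctor U.ι).obj G) :
    ∃ (F' : X.Modules) (ι : F' ⟶ F) (φ' : F' ⟶ G), Mono ι ∧ Coh.IsCoh F' ∧
      IsIso ((Scheme.Modules.restrictFunctor U.ι).map ι) ∧
      (Scheme.Modules.restrictFunctor U.ι).map φ' =
        (Scheme.Modules.restrictFunctor U.ι).map ι ≫ φ := by
  obtain ⟨P, p₁, p₂, hPq, hp₁, hp₂, hmono⟩ := exists_pullback_extension' U.ι F G hF.1 hG.1 φ
  haveI := hF.1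
  haveI := hG.1
  haveI := hp₁
  haveI := hmono
  have hP : Coh.IsCoh P :=
    ⟨hPq, isFiniteType_of_mono (biprod.lift p₁ p₂) hPq (SC.qc_biprod F G hF.1 hG.1)
      (isFiniteType_biprod F G hF.2 hG.2)⟩
  obtain ⟨Gx, q, -, hGx, hAx, hm⟩ := s2520 P hP
  obtain ⟨Φ, hΦdef⟩ : ∃ Φ : Set X, Φ = (U : Set X)ᶜ := ⟨_, rfl⟩
  have hΦU : ∀ x ∈ Φ, x ∉ U := by
    intro x hx hxU
    rw [hΦdef] at hx
    exact hx hxU
  have hΦ' : ∀ x : ↥(AssSch.Ass P), x.1 ∉ Φ → x.1 ∈ U := by
    intro x hx
    by_contra hxU
    apply hx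
    rw [hΦdef]
    exact hxU
  haveI hiso := isIso_restrict_subι P Gx q Φ hGx hAx U hΦU
  have hker : kernel.ι (subι P Gx q Φ ≫ p₁) = 0 := by
    apply comp_subι_eq_zero P Gx q Φ hGx hAx hm U hΦ'
    intro V hV t
    have h1 : p₁.app V ((subι P Gx q Φ).app V
        ((kernel.ι (subι P Gx q Φ ≫ p₁)).app V t)) = 0 :=
      kernel_ι_app_comp (subι P Gx q Φ ≫ p₁) V t
    have hb := Groth.Agent.LD.DF.app_bijective_of_isIso_restrict p₁ U hp₁ V hV
    have h2 : (subι P Gx q Φ).app V ((kernel.ι (subι P Gx q Φ ≫ p₁)).app V t) = 0 := by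
      apply hb.1
      rw [h1]
      exact (app_zero _ _).symm
    have h3 : (kernel.ι (subι P Gx q Φ ≫ p₁)).app V t = 0 := by
      apply mono_app (subι P Gx q Φ) V
      rw [h2]
      exact (app_zero _ _).symm
    apply mono_app (kernel.ι (subι P Gx q Φ ≫ p₁)) V
    rw [h3]
    exact (app_zero _ _).symm
  refine ⟨sub P Gx q Φ, subι P Gx q Φ ≫ p₁, subι P Gx q Φ ≫ p₂,
    Preadditive.mono_of_kernel_zero hker, sub_coh P Gx q Φ hP hGx hAx, ?_, ?_⟩
  · rw [Functor.map_comp]
    infer_instance
  · rw [Functor.map_comp, Functor.map_comp, hp₂, Category.assoc]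

end Extend

end Groth.Agent.LD.LocFinKer
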