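import Groth.Agent.Lib.Lead.Misc2.LocFinKer
import Groth.Agent.Lib.Lead.QC.SuppSES
import Groth.Agent.Lib.Lead.QC.Devissage
import Groth.Agent.Lib.Helper3.AssSupp

/-!
# The largest coherent submodule with nowhere dense support (lead): S8908

For a coherent module `F` on a locally Noetherian scheme with coprimary decomposition
`q_x : F ⟶ G_x` (`x ∈ Ass F`), the kernel `K` of `F ⟶ ∏ G_ξ`, `ξ` running over the minimal
associated points (the generic points of the support), is the largest coherent submodule with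
nowhere dense support; the quotient `F / K` has the same support, no embedded associated points,
and `F ⟶ F / K` is an isomorphism over the dense open complement of `Supp K`.
-/

set_option autoImplicit false
universe u
open CategoryTheory Limits AlgebraicGeometry TopologicalSpace Opposite

namespace Groth.Agent.LD.NoEmbQuot
open Groth.Agent.LD.QC Groth.Agent.LD.AssDec Groth.Agent.LD.LocFinKer

section Alg
variable {R : Type*} [CommRing R] [IsNoetherianRing R] {M : Type*} [AddCommGroup M] [Module R M]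

/-- an associated prime of a module jointly embedded in a family of modules, only finitely many
of which receive nonzero maps, is associated to a member of the family. -/
lemma exists_isAssociatedPrime_of_jointly_injective {ι : Type*} (N : ι → Type*)
    [∀ i, AddCommGroup (N i)] [∀ i, Module R (N i)] (d : ∀ i, M → N i)
    (hsmul : ∀ i (r : R) (m : M), d i (r • m) = r • d i m) (hzero : ∀ i, d i 0 = 0)
    (S : Finset ι) (hS : ∀ i, i ∉ S → ∀ m, d i m = 0)
    (hinj : ∀ m : M, (∀ i, d i m = 0) → m = 0)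
    (p : Ideal R) (hp : IsAssociatedPrime p M) : ∃ i, IsAssociatedPrime p (N i) := by
  obtain ⟨hpp, s, hs⟩ := (isAssociatedPrime_iff_smul p).mp hp
  have hle : S.inf (fun i => LinearMap.ker (LinearMap.toSpanSingleton R (N i) (d i s))) ≤ p := by
    intro r hr
    rw [Submodule.mem_finsetInf] at hr
    rw [hs r]
    apply hinj
    intro i
    rw [hsmul]
    by_cases hi : i ∈ S
    · have h1 := hr i hi
      rwa [LinearMap.mem_ker, LinearMap.toSpanSingleton_apply] at h1
    · rw [hS i hi, smul_zero]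
  obtain ⟨i, -, hi⟩ := (Ideal.IsPrime.inf_le' hpp).mp hle
  refine ⟨i, (isAssociatedPrime_iff_smul p).mpr
    ⟨hpp, d i s, fun r => ⟨fun hr => ?_, fun hr => hi ?_⟩⟩⟩
  · rw [← hsmul, (hs r).mp hr, hzero]
  · rw [LinearMap.mem_ker, LinearMap.toSpanSingleton_apply]
    exact hr

end Alg

variable {X : Scheme.{u}}

/-- a module with no sections over the small opens around a point has vanishing stalk there. -/
lemma subsingleton_stalk_of_forall_eq_zero (M : X.Modules) (W : X.Opens) {x : X} (hxW : x ∈ W)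
    (h : ∀ V : X.Opens, V ≤ W → ∀ t : Γ(M, V), t = 0) : Subsingleton (M.presheaf.stalk x) := by
  apply subsingleton_of_forall_eq_zero
  intro a
  obtain ⟨V, hxV, s, rfl⟩ := TopCat.Presheaf.exists_germ_eq M.presheaf a
  have h3 := TopCat.Presheaf.germ_res_apply M.presheaf (homOfLE (inf_le_left : V ⊓ W ≤ V)) x
    ⟨hxV, hxW⟩ s
  have h4 : M.presheaf.map (homOfLE (inf_le_left : V ⊓ W ≤ V)).op s = 0 :=
    h (V ⊓ W) inf_le_right _
  rw [← h3, h4]
  exact map_zero (M.presheaf.germ (V ⊓ W) x ⟨hxV, hxW⟩).hom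

/-- a section over an open all of whose stalks vanish is zero. -/
lemma section_eq_zero_of_stalks (M : X.Modules) (V : X.Opens)
    (h : ∀ x ∈ V, Subsingleton (M.presheaf.stalk x)) (t : Γ(M, V)) : t = 0 := by
  apply section_eq_zero_of_germ M t
  intro x hx
  haveI := h x hx
  exact Subsingleton.elim _ _

lemma mem_support_of_isAssPoint (M : X.Modules) {x : X} (h : Curv2.IsAssPoint M x) :
    x ∈ CohB1.support M :=
  not_subsingleton_iff_nontrivial.mpr
    (Groth.Agent.H3.AssSupp.nontrivial_stalk_of_isAssPoint M x h)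

/-- the minimal associated points: the generic points of the support. -/
def Min (F : X.Modules) : Set X :=
  {x | x ∈ AssSch.Ass F ∧ ∀ y ∈ AssSch.Ass F, y ⤳ x → y = x}

/-- a coprimary decomposition of `F` together with the submodule cut out by the quotients at the
minimal associated points. -/
structure Data (F : X.Modules) where
  G : ↥(AssSch.Ass F) → X.Modules
  q : ∀ x, F ⟶ G x
  hG : ∀ x, Coh.IsCoh (G x)
  hA : ∀ x, AssSch.Ass (G x) = {x.1}
  hm : ∀ (T : X.Modules) (a b : T ⟶ F), (∀ x, a ≫ q x = b ≫ q x) → a = b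
  K : Subobject F
  hK : Coh.IsCoh (K : X.Modules)
  hmem : ∀ (W : X.Opens) (s : Γ(F, W)),
    (∃ t : Γ((K : X.Modules), W), K.arrow.app W t = s) ↔
      ∀ i : Idx F (Min F), (q i.1).app W s = 0
  hle : ∀ K' : Subobject F, (∀ i : Idx F (Min F), K'.arrow ≫ q i.1 = 0) → K' ≤ K

section Main
variable [IsLocallyNoetherian X] {F : X.Modules} (hF : Coh.IsCoh F)

include hF in
/-- the data exist. -/
theorem exists_data : Nonempty (Data F) := by
  obtain ⟨G, q, -, hG, hA, hm⟩ := s2520 F hF
  refine ⟨{ G := G, q := q, hG := hG, hA := hA, hm := hm,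
            K := Subobject.mk (subι F G q (Min F)),
            hK := isCoh_of_iso (Subobject.underlyingIso (subι F G q (Min F))).symm
              (sub_coh F G q (Min F) hF hG hA),
            hmem := ?_, hle := ?_ }⟩
  · intro W s
    rw [← mem_sub_iff F G q (Min F) W s]
    constructor
    · rintro ⟨t, rfl⟩
      refine ⟨(Subobject.underlyingIso (subι F G q (Min F))).hom.app W t, ?_⟩
      show ((Subobject.underlyingIso (subι F G q (Min F))).hom ≫ subι F G q (Min F)).app W t = _
      rw [Subobject.underlyingIso_hom_comp_eq_mk]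
    · rintro ⟨t, rfl⟩
      refine ⟨(Subobject.underlyingIso (subι F G q (Min F))).inv.app W t, ?_⟩
      show ((Subobject.underlyingIso (subι F G q (Min F))).inv ≫
        (Subobject.mk (subι F G q (Min F))).arrow).app W t = _
      rw [Subobject.underlyingIso_arrow]
  · intro K' hK'
    have hz : K'.arrow ≫ piMap F G q (Min F) = 0 := by
      apply Limits.Pi.hom_ext
      intro i
      rw [Category.assoc, piMap_π, zero_comp]
      exact hK' i
    have hle : K' ≤ Subobject.mk (kernel.ι (piMap F G q (Min F))) :=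
      Subobject.le_mk_of_comm (kernel.lift (piMap F G q (Min F)) K'.arrow hz)
        (kernel.lift_ι _ _ _)
    exact hle

include hF in
/-- a minimal associated point has an open neighbourhood containing no other associated point. -/
lemma exists_nbhd {ξ : X} (hξ : ξ ∈ Min F) :
    ∃ W : X.Opens, ξ ∈ W ∧ ∀ x ∈ AssSch.Ass F, x ∈ W → x = ξ := by
  haveI := hF.1
  obtain ⟨W₀, hW₀, hξW₀, -⟩ := exists_isAffineOpen_mem_and_subset (x := ξ) (U := ⊤) trivial
  have hfin : {x : X | (x ∈ W₀ ∧ Curv2.IsAssPoint F x) ∧ x ≠ ξ}.Finite :=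
    (finite_assPoints_affine F hF.2 hW₀).subset (fun x hx => hx.1)
  have hcl : IsClosed (⋃ x ∈ {x : X | (x ∈ W₀ ∧ Curv2.IsAssPoint F x) ∧ x ≠ ξ},
      closure ({x} : Set X)) := hfin.isClosed_biUnion (fun x _ => isClosed_closure)
  have hξc : ξ ∉ ⋃ x ∈ {x : X | (x ∈ W₀ ∧ Curv2.IsAssPoint F x) ∧ x ≠ ξ},
      closure ({x} : Set X) := by
    intro hmem
    obtain ⟨x, hxS, hξx⟩ := Set.mem_iUnion₂.mp hmem
    exact hxS.2 (hξ.2 x hxS.1.2 (specializes_iff_mem_closure.mpr hξx))
  refine ⟨W₀ ⊓ ⟨_, hcl.isOpen_compl⟩, ⟨hξW₀, hξc⟩, ?_⟩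
  rintro x hx ⟨hxW₀, hxc⟩
  by_contra hne
  exact hxc (Set.mem_iUnion₂.mpr ⟨x, ⟨⟨hxW₀, hx⟩, hne⟩, subset_closure rfl⟩)

include hF in
/-- every point of the support specializes from a minimal associated point. -/
lemma exists_min_generization {x : X} (hx : x ∈ CohB1.support F) : ∃ ξ ∈ Min F, ξ ⤳ x := by
  haveI := hF.1
  have hnt : Nontrivial (F.presheaf.stalk x) := not_subsingleton_iff_nontrivial.mp hx
  obtain ⟨y, hyx, hy⟩ := Groth.Agent.H3.AssSupp.exists_ass_generization F x hnt
  obtain ⟨W₀, hW₀, hxW₀, -⟩ := exists_isAffineOpen_mem_and_subset (x := x) (U := ⊤) trivial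
  have hfin : {z : X | z ∈ W₀ ∧ Curv2.IsAssPoint F z}.Finite :=
    finite_assPoints_affine F hF.2 hW₀
  have hyW₀ : y ∈ W₀ := hyx.mem_open W₀.2 hxW₀
  obtain ⟨ξ, hyξ, hξ⟩ := hfin.exists_le_maximal (a := y) ⟨hyW₀, hy⟩
  have hξy : ξ ⤳ y := hyξ
  refine ⟨ξ, ⟨hξ.1.2, fun z hz hzξ => ?_⟩, hξy.trans hyx⟩
  have hzW₀ : z ∈ W₀ := hzξ.mem_open W₀.2 hξ.1.1
  have h1 : ξ ⤳ z :=
    hξ.2 (show z ∈ {z : X | z ∈ W₀ ∧ Curv2.IsAssPoint F z} from ⟨hzW₀, hz⟩) hzξ
  exact (hzξ.antisymm h1).eq

variable (D : Data F)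

/-- joint injectivity of the coprimary quotients on sections. -/
lemma section_eq_zero_of_forall (V : X.Opens) (s : Γ(F, V)) (h : ∀ x, (D.q x).app V s = 0) :
    s = 0 := by
  obtain ⟨t, ht⟩ := (mem_sub_iff F D.G D.q Set.univ V s).mpr (fun i => h i.1)
  have h0 : subι F D.G D.q Set.univ = 0 := by
    apply D.hm
    intro x
    rw [zero_comp]
    exact subι_comp F D.G D.q Set.univ ⟨x, Set.mem_univ _⟩
  rw [← ht, h0]
  rfl

include hF in
/-- the submodule vanishes at the minimal associated points. -/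
lemma not_mem_support {ξ : X} (hξ : ξ ∈ Min F) : ξ ∉ CohB1.support (D.K : X.Modules) := by
  obtain ⟨W, hξW, hW⟩ := exists_nbhd hF hξ
  intro hsupp
  have hsupp' : ¬ Subsingleton ((D.K : X.Modules).presheaf.stalk ξ) := hsupp
  apply hsupp'
  apply subsingleton_stalk_of_forall_eq_zero (D.K : X.Modules) W hξW
  intro V hVW t
  apply mono_app D.K.arrow V
  rw [app_zero]
  apply section_eq_zero_of_forall D V
  intro x
  by_cases hx : x.1 ∈ Min F
  · exact (D.hmem V (D.K.arrow.app V t)).mp ⟨t, rfl⟩ ⟨x, hx⟩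
  · haveI := (D.hG x).1
    apply section_eq_zero_of_ass_singleton (D.G x) x.1 (D.hA x)
    intro hxV
    have h1 : x.1 = ξ := hW x.1 x.2 (hVW hxV)
    apply hx
    rw [h1]
    exact hξ

include hF in
/-- the support of the submodule is nowhere dense in the support of `F`. -/
lemma inter_support_eq_empty (U : X.Opens)
    (hU : (U : Set X) ∩ CohB1.support F ⊆ CohB1.support (D.K : X.Modules)) :
    (U : Set X) ∩ CohB1.support F = ∅ := by
  rw [Set.eq_empty_iff_forall_notMem]
  rintro x ⟨hxU, hxF⟩
  obtain ⟨ξ, hξ, hξx⟩ := exists_min_generization hF hxF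
  have hξU : ξ ∈ U := hξx.mem_open U.2 hxU
  exact not_mem_support hF D hξ (hU ⟨hξU, mem_support_of_isAssPoint F hξ.1⟩)

include hF in
/-- a coherent module with nowhere dense support maps to zero in the quotients at the minimal
associated points. -/
lemma comp_eq_zero_of_nowhereDense {K' : X.Modules} (j : K' ⟶ F) (hK' : Coh.IsCoh K')
    (hnd : ∀ U : X.Opens, (U : Set X) ∩ CohB1.support F ⊆ CohB1.support K' →
      (U : Set X) ∩ CohB1.support F = ∅)
    (i : Idx F (Min F)) : j ≫ D.q i.1 = 0 := by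
  haveI := hF.1
  haveI := (D.hG i.1).1
  have hξ : i.1.1 ∈ Min F := i.2
  obtain ⟨W, hξW, hW⟩ := exists_nbhd hF hξ
  have hcl : IsClosed (CohB1.support K') := isClosed_support_of_isCoh hK'
  have hξF : i.1.1 ∈ CohB1.support F := mem_support_of_isAssPoint F hξ.1
  have hξK' : i.1.1 ∉ CohB1.support K' := by
    intro hmemK
    have hsub : (W : Set X) ∩ CohB1.support F ⊆ CohB1.support K' := by
      rintro z ⟨hzW, hzF⟩
      have hnt : Nontrivial (F.presheaf.stalk z) := not_subsingleton_iff_nontrivial.mp hzF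
      obtain ⟨y, hyz, hy⟩ := Groth.Agent.H3.AssSupp.exists_ass_generization F z hnt
      have hyW : y ∈ W := hyz.mem_open W.2 hzW
      have hyξ : y = i.1.1 := hW y hy hyW
      rw [hyξ] at hyz
      exact hcl.stableUnderSpecialization hyz hmemK
    have h1 := hnd W hsub
    exact (Set.eq_empty_iff_forall_notMem.mp h1) i.1.1 ⟨hξW, hξF⟩
  refine eq_zero_of_vanishOn ⟨(CohB1.support K')ᶜ, hcl.isOpen_compl⟩ ?_ ?_ (j ≫ D.q i.1)
  · rw [D.hA i.1]
    exact Set.singleton_subset_iff.mpr hξK'
  · intro V hV t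
    apply section_eq_zero_of_stalks K' V _ t
    intro x hx
    exact not_not.mp (hV hx)

omit [IsLocallyNoetherian X] in
lemma shortExact :
    (ShortComplex.mk D.K.arrow (cokernel.π D.K.arrow) (cokernel.condition D.K.arrow)).ShortExact :=
  { exact := ShortComplex.exact_cokernel D.K.arrow
    mono_f := inferInstanceAs (Mono D.K.arrow)
    epi_g := inferInstanceAs (Epi (cokernel.π D.K.arrow)) }

omit [IsLocallyNoetherian X] in
lemma support_eq_union :
    CohB1.support F = CohB1.support (D.K : X.Modules) ∪ CohB1.support (cokernel D.K.arrow) :=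
  support_of_shortExact (shortExact D)

include hF in
/-- the quotient has the same support. -/
lemma support_cokernel_eq : CohB1.support (cokernel D.K.arrow) = CohB1.support F := by
  apply Set.Subset.antisymm (support_subset_of_epi (cokernel.π D.K.arrow))
  intro x hx
  obtain ⟨ξ, hξ, hξx⟩ := exists_min_generization hF hx
  have hξF : ξ ∈ CohB1.support F := mem_support_of_isAssPoint F hξ.1
  have hξK : ξ ∉ CohB1.support (D.K : X.Modules) := not_mem_support hF D hξ
  have hξQ : ξ ∈ CohB1.support (cokernel D.K.arrow) := by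
    rw [support_eq_union D] at hξF
    exact ((Set.mem_union _ _ _).mp hξF).resolve_left hξK
  have hQcoh : Coh.IsCoh (cokernel D.K.arrow) := isCoh_cokernel D.K.arrow D.hK hF
  exact (isClosed_support_of_isCoh hQcoh).stableUnderSpecialization hξx hξQ

include hF in
/-- the associated points of the quotient are minimal associated points of `F`. -/
lemma mem_min_of_isAssPoint_cokernel {y : X} (hy : Curv2.IsAssPoint (cokernel D.K.arrow) y) :
    y ∈ Min F := by
  classical
  haveI := hF.1
  haveI hQq : (cokernel D.K.arrow).IsQuasicoherent := qc_cokernel D.K.arrow D.hK.1 hF.1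
  obtain ⟨W, hW, hyW, -⟩ := exists_isAffineOpen_mem_and_subset (x := y) (U := ⊤) trivial
  haveI : IsNoetherianRing Γ(X, W) := IsLocallyNoetherian.component_noetherian ⟨W, hW⟩
  have hp : IsAssociatedPrime (hW.primeIdealOf ⟨y, hyW⟩).asIdeal Γ(cokernel D.K.arrow, W) :=
    (Groth.Agent.H2.DepthS1.isAssPoint_iff (cokernel D.K.arrow) hW y hyW).mp hy
  have hcomp : ∀ i : Idx F (Min F), D.K.arrow ≫ D.q i.1 = 0 := by
    intro i
    apply Scheme.Modules.hom_ext
    intro O
    ext t
    show (D.q i.1).app O (D.K.arrow.app O t) = 0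
    exact (D.hmem O (D.K.arrow.app O t)).mp ⟨t, rfl⟩ i
  have hfin : {i : Idx F (Min F) | i.1.1 ∈ W}.Finite := by
    have h1 := finite_assPoints_affine F hF.2 hW
    have hinj : Function.Injective (fun i : Idx F (Min F) => i.1.1) :=
      fun a b h => Subtype.ext (Subtype.ext h)
    refine Set.Finite.subset (h1.preimage hinj.injOn) ?_
    intro i hi
    exact ⟨hi, i.1.2⟩
  obtain ⟨i, hi⟩ := exists_isAssociatedPrime_of_jointly_injective
    (R := Γ(X, W)) (M := Γ(cokernel D.K.arrow, W))
    (N := fun i : Idx F (Min F) => Γ(D.G i.1, W))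
    (fun i s => (cokernel.desc D.K.arrow (D.q i.1) (hcomp i)).app W s)
    (fun i r m => Scheme.Modules.Hom.app_smul _ r m)
    (fun i => app_zero _ W)
    hfin.toFinset
    (fun i hi m => by
      haveI := (D.hG i.1).1
      exact section_eq_zero_of_ass_singleton (D.G i.1) i.1.1 (D.hA i.1)
        (fun h => hi (hfin.mem_toFinset.mpr h)) _)
    (fun m hm0 => by
      obtain ⟨t, rfl⟩ := epi_app_affine hF.1 hQq (cokernel.π D.K.arrow) hW m
      have h1 : ∀ i : Idx F (Min F), (D.q i.1).app W t = 0 := by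
        intro i
        have h2 := hm0 i
        have h3 : cokernel.π D.K.arrow ≫ cokernel.desc D.K.arrow (D.q i.1) (hcomp i) =
            D.q i.1 := cokernel.π_desc _ _ _
        rw [← h3]
        exact h2
      obtain ⟨t', rfl⟩ := (D.hmem W t).mpr h1
      have h4 : D.K.arrow ≫ cokernel.π D.K.arrow = 0 := cokernel.condition D.K.arrow
      show (D.K.arrow ≫ cokernel.π D.K.arrow).app W t' = 0
      rw [h4]
      rfl)
    _ hp
  have hyi : y ∈ AssSch.Ass (D.G i.1) := by
    haveI := (D.hG i.1).1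
    exact (Groth.Agent.H2.DepthS1.isAssPoint_iff (D.G i.1) hW y hyW).mpr hi
  rw [D.hA i.1] at hyi
  have hyi' : y = i.1.1 := hyi
  rw [hyi']
  exact i.2

include hF in
/-- the dense open over which `F ⟶ F / K` is an isomorphism. -/
lemma exists_dense_open :
    ∃ U : X.Opens, Dense (U : Set X) ∧
      CohB1.support F ⊆ closure ((U : Set X) ∩ CohB1.support F) ∧
      IsIso ((Scheme.Modules.restrictFunctor U.ι).map (cokernel.π D.K.arrow)) := by
  have hcl : IsClosed (CohB1.support (D.K : X.Modules)) := isClosed_support_of_isCoh D.hK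
  have hKF : CohB1.support (D.K : X.Modules) ⊆ CohB1.support F := by
    rw [support_eq_union D]
    exact Set.subset_union_left
  obtain ⟨U, hUdef⟩ : ∃ U : X.Opens,
      U = ⟨(CohB1.support (D.K : X.Modules))ᶜ, hcl.isOpen_compl⟩ := ⟨_, rfl⟩
  have hmemU : ∀ z : X, z ∈ U ↔ z ∉ CohB1.support (D.K : X.Modules) :=
    fun z => by rw [hUdef]; rfl
  refine ⟨U, ?_, ?_, ?_⟩
  · rw [dense_iff_inter_open]
    intro V hV hVne
    by_contra hcon
    rw [Set.not_nonempty_iff_eq_empty] at hcon
    have hVK : V ⊆ CohB1.support (D.K : X.Modules) := by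
      intro z hz
      by_contra hzK
      exact (Set.eq_empty_iff_forall_notMem.mp hcon) z ⟨hz, (hmemU z).mpr hzK⟩
    have h1 := inter_support_eq_empty hF D ⟨V, hV⟩ (fun z hz => hVK hz.1)
    obtain ⟨z, hz⟩ := hVne
    exact (Set.eq_empty_iff_forall_notMem.mp h1) z ⟨hz, hKF (hVK hz)⟩
  · intro x hx
    rw [mem_closure_iff]
    intro o ho hxo
    by_contra hcon
    rw [Set.not_nonempty_iff_eq_empty] at hcon
    have hoK : ((⟨o, ho⟩ : X.Opens) : Set X) ∩ CohB1.support F ⊆
        CohB1.support (D.K : X.Modules) := by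
      rintro z ⟨hzo, hzF⟩
      by_contra hzK
      exact (Set.eq_empty_iff_forall_notMem.mp hcon) z ⟨hzo, (hmemU z).mpr hzK, hzF⟩
    have h1 := inter_support_eq_empty hF D ⟨o, ho⟩ hoK
    exact (Set.eq_empty_iff_forall_notMem.mp h1) x ⟨hxo, hx⟩
  · have hz : IsZero ((Scheme.Modules.restrictFunctor U.ι).obj (D.K : X.Modules)) :=
      isZero_restrict_of_stalks (D.K : X.Modules) U (fun y hy => not_not.mp ((hmemU y).mp hy))
    have h0 : (Scheme.Modules.restrictFunctor U.ι).map D.K.arrow = 0 := hz.eq_of_src _ _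
    have hSE := shortExact D
    have hex : ((ShortComplex.mk D.K.arrow (cokernel.π D.K.arrow)
        (cokernel.condition D.K.arrow)).map (Scheme.Modules.restrictFunctor U.ι)).Exact :=
      hSE.exact.map_of_epi_of_preservesCokernel (Scheme.Modules.restrictFunctor U.ι)
        hSE.epi_g inferInstance
    haveI : Mono ((Scheme.Modules.restrictFunctor U.ι).map (cokernel.π D.K.arrow)) :=
      hex.mono_g h0
    haveI : Epi ((Scheme.Modules.restrictFunctor U.ι).map (cokernel.π D.K.arrow)) :=
      inferInstance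
    exact isIso_of_mono_of_epi _

end Main

/-- **S8908**: the largest coherent submodule with nowhere dense support and its quotient. -/
theorem s8908 (X : Scheme.{u}) [IsLocallyNoetherian X] (F : X.Modules) (hF : Coh.IsCoh F) :
    ∃ K : Subobject F, Coh.IsCoh (K : X.Modules) ∧
      (∀ U : X.Opens, (U : Set ↥X) ∩ CohB1.support F ⊆ CohB1.support (K : X.Modules) →
        (U : Set ↥X) ∩ CohB1.support F = ∅) ∧
      (∀ K' : Subobject F, Coh.IsCoh (K' : X.Modules) →
        (∀ U : X.Opens, (U : Set ↥X) ∩ CohB1.support F ⊆ CohB1.support (K' : X.Modules) →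
          (U : Set ↥X) ∩ CohB1.support F = ∅) → K' ≤ K) ∧
      CohB1.support (cokernel K.arrow) = CohB1.support F ∧
      (∀ x : ↥X, Curv2.IsAssPoint (cokernel K.arrow) x →
        ∀ y : ↥X, Curv2.IsAssPoint (cokernel K.arrow) y → y ⤳ x → y = x) ∧
      ∃ U : X.Opens, Dense (U : Set ↥X) ∧
        CohB1.support F ⊆ closure ((U : Set ↥X) ∩ CohB1.support F) ∧
        IsIso ((Scheme.Modules.restrictFunctor U.ι).map (cokernel.π K.arrow)) := by
  obtain ⟨D⟩ := exists_data hF
  refine ⟨D.K, D.hK, fun U hU => inter_support_eq_empty hF D U hU, ?_,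
    support_cokernel_eq hF D, ?_, exists_dense_open hF D⟩
  · intro K' hK' hnd
    exact D.hle K' (fun i => comp_eq_zero_of_nowhereDense hF D K'.arrow hK' hnd i)
  · intro x hx y hy hyx
    have hx' := mem_min_of_isAssPoint_cokernel hF D hx
    have hy' := mem_min_of_isAssPoint_cokernel hF D hy
    exact hx'.2 y hy'.1 hyx

end Groth.Agent.LD.NoEmbQuot
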