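import Mathlib
import Groth.Agent.Lib.Helper5.Curve6.P1Facts
import Groth.Agent.Lib.Lead.PN.OverChart
import Groth.Agent.Lib.Helper5.AG.ProjSection
import Groth.Agent.Lib.Helper1.ConnCompTop
import Groth.Agent.H4.ProjSmooth

/-!
# Finite flat covers of `P^1_S` (S13901, S13902, S13906)

The fibres of `P^n_S → S` are connected, so a clopen subset of `P^n_S` missing a section is empty.
-/

set_option autoImplicit false
universe u
open AlgebraicGeometry CategoryTheory Limits

namespace Groth.Agent.LD.P1Fin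

variable (n : ℕ) (S : Scheme.{u})

/-- the fibres of `P^n_S → S` are connected. -/
theorem isConnected_fiber (s : S) :
    _root_.IsConnected ((CohB1.ProjSpaceOver.toBase n S) ⁻¹' {s}) := by
  let κ : Type u := S.residueField s
  let g : Spec (CommRingCat.of κ) ⟶ S := S.fromSpecResidueField s
  have hr : Set.range g = {s} := Scheme.range_fromSpecResidueField s
  have h1 := Groth.Agent.LD.PN.OC.range_chart n g
  rw [hr] at h1
  rw [← h1]
  haveI := Groth.Agent.H5.Curve6.isIntegral_projSpace κ n
  exact isConnected_range (Groth.Agent.LD.PN.OC.chart n g).continuous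

theorem isQuotientMap_toBase :
    Topology.IsQuotientMap (CohB1.ProjSpaceOver.toBase n S) := by
  haveI := Groth.Agent.H4.ProjSmooth.smooth_toBase (n := n) S
  haveI := Groth.Agent.H5.AG.surjective_toBase n S
  exact (CohB1.ProjSpaceOver.toBase n S).isOpenMap.isQuotientMap
    (CohB1.ProjSpaceOver.toBase n S).continuous (CohB1.ProjSpaceOver.toBase n S).surjective

/-- `P^n_S` is preconnected when `S` is. -/
theorem preconnectedSpace [PreconnectedSpace S] : PreconnectedSpace (CohB1.ProjSpaceOver n S) := by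
  rw [preconnectedSpace_iff_connectedComponent]
  intro a
  rw [← (isQuotientMap_toBase n S).isCoinducing.preimage_connectedComponent
    (isConnected_fiber n S) a, PreconnectedSpace.connectedComponent_eq_univ, Set.preimage_univ]

/-- a clopen subset of `P^n_S` missing a section is empty. -/
theorem eq_empty_of_isClopen (σ : S ⟶ CohB1.ProjSpaceOver n S)
    (hσ : σ ≫ CohB1.ProjSpaceOver.toBase n S = 𝟙 S)
    (V : Set (CohB1.ProjSpaceOver n S)) (hV : IsClopen V) (hd : ∀ s : S, σ s ∉ V) : V = ∅ := by
  by_contra hne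
  obtain ⟨p, hp⟩ := Set.nonempty_iff_ne_empty.mpr hne
  have hsub := (isConnected_fiber n S (CohB1.ProjSpaceOver.toBase n S p)).isPreconnected.subset_isClopen
    hV ⟨p, rfl, hp⟩
  refine hd (CohB1.ProjSpaceOver.toBase n S p) (hsub ?_)
  show CohB1.ProjSpaceOver.toBase n S (σ (CohB1.ProjSpaceOver.toBase n S p)) =
    CohB1.ProjSpaceOver.toBase n S p
  rw [← Scheme.Hom.comp_apply, hσ]
  rfl

theorem sect_toBase (i : Fin (1 + 1)) :
    P1.sect S i ≫ CohB1.ProjSpaceOver.toBase 1 S = 𝟙 S :=
  pullback.lift_snd _ _ _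

variable {S}
variable {X T : Scheme.{u}}

/-- **S13906**. -/
theorem clopen_univ (g : X ⟶ CohB1.ProjSpaceOver 1 S) [IsFinite g] [Flat g]
    [LocallyOfFinitePresentation g] (W : Set X) (hW : IsClopen W)
    (h0 : ∀ x : X, g x ∈ Set.range (P1.sect S 0) → x ∈ W) : W = Set.univ := by
  have hV : IsClopen (g '' Wᶜ) :=
    ⟨g.isClosedMap _ hW.compl.isClosed, g.isOpenMap _ hW.compl.isOpen⟩
  have key := eq_empty_of_isClopen 1 S (P1.sect S 0) (sect_toBase S 0) _ hV (by
    rintro s ⟨x, hx, hxs⟩
    exact hx (h0 x ⟨s, hxs.symm⟩))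
  rw [Set.image_eq_empty, Set.compl_empty_iff] at key
  exact key

/-- **S13902**. -/
theorem finrank_eq (g : X ⟶ CohB1.ProjSpaceOver 1 S) (f : T ⟶ X)
    [IsFinite g] [Flat g] [LocallyOfFinitePresentation g]
    [IsFinite f] [Flat f] [LocallyOfFinitePresentation f] (r : ℕ)
    (h : ∀ x : X, g x ∈ Set.range (P1.sect S 0) → f.finrank x = r) (x : X) :
    f.finrank x = r := by
  have hW : IsClopen {x : X | f.finrank x = r} :=
    (Scheme.Hom.isLocallyConstant_finrank f).isClopen_fiber r
  have key := clopen_univ g _ hW h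
  have hx : x ∈ {x : X | f.finrank x = r} := by rw [key]; trivial
  exact hx

/-- **S13901**. -/
theorem exists_mem_connectedComponent [PreconnectedSpace S]
    (f : X ⟶ CohB1.ProjSpaceOver 1 S) [IsFinite f] [Flat f] [LocallyOfFinitePresentation f]
    (x : X) (p : CohB1.ProjSpaceOver 1 S) : ∃ y ∈ connectedComponent x, f y = p := by
  haveI : ConnectedSpace (CohB1.ProjSpaceOver 1 S) :=
    @ConnectedSpace.mk _ _ (preconnectedSpace 1 S) ⟨f x⟩
  have hfin := Groth.Agent.H1.ConnCompTop.finite_clopens_of_map f f.isOpenMap f.isClosedMap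
    (fun z => f.finite_preimage_singleton z)
  have hC := Groth.Agent.H1.ConnCompTop.isClopen_connectedComponent_of_finite hfin x
  have hI : IsClopen (f '' connectedComponent x) :=
    ⟨f.isClosedMap _ hC.isClosed, f.isOpenMap _ hC.isOpen⟩
  have hu : f '' connectedComponent x = Set.univ :=
    hI.eq_univ ⟨f x, x, mem_connectedComponent, rfl⟩
  have hp : p ∈ f '' connectedComponent x := by rw [hu]; trivial
  obtain ⟨y, hy, rfl⟩ := hp
  exact ⟨y, hy, rfl⟩

end Groth.Agent.LD.P1Fin
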