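import Mathlib
import Groth.Prelude.Def_TorSh
import Groth.Prelude.Def_Coh
import Groth.Agent.Lib.Lead.QC.PullbackUnit
import Groth.Agent.Lib.Lead.QC.Stalk
import Groth.Agent.Lib.Helper3.ZClosCover
import Groth.Agent.Lib.Helper2.ExtInvA

/-!
# Rank-one torsion-free quasi-coherent modules embed in the sheaf of rational functions (lead)

* `linearEquiv_stalk`: for a quasi-coherent module `F` and a point `x`, the global sections of the
  pullback of `F` to `Spec 𝒪_{X,x}` are `𝒪_{X,x}`-linearly isomorphic to the stalk `F_x`.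
* `mono_unit`: on an integral scheme, the unit `F ⟶ j_* j^* F` (`j : Spec K(X) ⟶ X`) is a
  monomorphism for torsion-free quasi-coherent `F`.
* `main`: S4350.
-/

set_option autoImplicit false
set_option linter.style.haveILetI false
universe u
open CategoryTheory Limits AlgebraicGeometry TopologicalSpace Opposite

namespace Groth.Agent.LD.RankOne

open Groth.Agent.LD.QC

variable {X : Scheme.{u}}

/-- sections of a torsion-free module over an integral scheme have no torsion (variant of
`Groth.Agent.H2.TorShPush.section_eq_zero` for the identity). -/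
theorem section_eq_zero [IsIntegral X] (F : X.Modules) (hF : TorSh.IsTorsionFree F)
    (W : X.Opens) (a : Γ(X, W)) (ha0 : a ≠ 0) (s : Γ(F, W)) (hW : a • s = 0) : s = 0 := by
  apply TopCat.Presheaf.section_ext ((SheafOfModules.toSheaf _).obj F) W
  intro x hx
  have h2 := germ_smul F x W hx a s
  rw [hW, map_zero] at h2
  have hgb : X.presheaf.germ W x hx a ≠ 0 := by
    intro h
    apply ha0
    have hinj := germ_injective_of_isIntegral X x hx
    apply hinj
    rw [h, map_zero]
  have hreg := (hF x).isSMulRegular (isRegular_of_ne_zero hgb)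
  have h3 : F.presheaf.germ W x hx s = 0 := by
    apply hreg
    exact h2.symm.trans (smul_zero _).symm
  refine Eq.trans h3 ?_
  exact (map_zero (F.presheaf.germ W x hx).hom).symm

lemma top_le_preimage [IsIntegral X] (W : X.Opens) (hη : genericPoint X ∈ W) :
    (⊤ : (Spec (X.presheaf.stalk (genericPoint X))).Opens) ≤
      (X.fromSpecStalk (genericPoint X)) ⁻¹ᵁ W := by
  intro p _
  have h : (X.fromSpecStalk (genericPoint X)) p ∈ {y | y ⤳ genericPoint X} := by
    rw [← Scheme.range_fromSpecStalk]
    exact ⟨p, rfl⟩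
  exact (h : _ ⤳ _).mem_open W.2 hη

/-- the scalar action of `R` on global sections of a module over `Spec R`. -/
lemma tilde_smul_top {R : CommRingCat.{u}} (M : (Spec R).Modules) (r : R) (p : Γ(M, ⊤)) :
    r • p = ((Scheme.ΓSpecIso R).inv r) • p := by
  rw [Scheme.Modules.smul_Spec_def]
  congr 1

section Stalk

variable (x : X) {W : X.Opens} (hW : IsAffineOpen W) (hx : x ∈ W)

lemma appLE_eq (e : (⊤ : (Spec (X.presheaf.stalk x)).Opens) ≤ (X.fromSpecStalk x) ⁻¹ᵁ W)
    (a : Γ(X, W)) :
    ((X.fromSpecStalk x).appLE W ⊤ e).hom a =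
      (Scheme.ΓSpecIso (X.presheaf.stalk x)).inv (X.presheaf.germ W x hx a) := by
  have h1 : (X.fromSpecStalk x).appLE W ⊤ e =
      X.presheaf.germ W x hx ≫ (Scheme.ΓSpecIso (X.presheaf.stalk x)).inv := by
    rw [Scheme.Hom.appLE, Scheme.fromSpecStalk_app hx, Category.assoc, Category.assoc,
      ← Functor.map_comp]
    have h2 : ((homOfLE le_top).op ≫ (homOfLE e).op :
        op (⊤ : (Spec (X.presheaf.stalk x)).Opens) ⟶ op ⊤) = 𝟙 _ := Subsingleton.elim _ _
    rw [h2, CategoryTheory.Functor.map_id, Category.comp_id]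
  rw [h1]
  rfl

include hW in
lemma isLocalization_Γ (e : (⊤ : (Spec (X.presheaf.stalk x)).Opens) ≤ (X.fromSpecStalk x) ⁻¹ᵁ W) :
    letI := ((X.fromSpecStalk x).appLE W ⊤ e).hom.toAlgebra
    IsLocalization (hW.primeIdealOf ⟨x, hx⟩).asIdeal.primeCompl
      Γ(Spec (X.presheaf.stalk x), ⊤) := by
  letI := ((X.fromSpecStalk x).appLE W ⊤ e).hom.toAlgebra
  letI : Algebra Γ(X, W) (X.presheaf.stalk x) :=
    TopCat.Presheaf.algebra_section_stalk X.presheaf ⟨x, hx⟩
  haveI := hW.isLocalization_stalk ⟨x, hx⟩
  refine IsLocalization.isLocalization_of_algEquiv _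
    (AlgEquiv.ofRingEquiv
      (f := (Scheme.ΓSpecIso (X.presheaf.stalk x)).symm.commRingCatIsoToRingEquiv) fun a => ?_)
  exact (appLE_eq x hx e a).symm

include hW in
/-- sections of the pullback of a quasi-coherent module to `Spec 𝒪_{X,x}` are the localization of
the sections over an affine neighbourhood of `x`. -/
theorem isLocalizedModule_pbSec (F : X.Modules) [F.IsQuasicoherent]
    (e : (⊤ : (Spec (X.presheaf.stalk x)).Opens) ≤ (X.fromSpecStalk x) ⁻¹ᵁ W) :
    letI := pbModule (X.fromSpecStalk x) F e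
    IsLocalizedModule (hW.primeIdealOf ⟨x, hx⟩).asIdeal.primeCompl
      (pbSecₗ (X.fromSpecStalk x) F e) := by
  letI := ((X.fromSpecStalk x).appLE W ⊤ e).hom.toAlgebra
  letI := pbModule (X.fromSpecStalk x) F e
  haveI := pbModule_isScalarTower (X.fromSpecStalk x) F e
  haveI := isLocalization_Γ x hW hx e
  have hbc := isBaseChange_pbSec (X.fromSpecStalk x)
    (isAffineOpen_top (Spec (X.presheaf.stalk x))) hW e F
  exact (isLocalizedModule_iff_isBaseChange (hW.primeIdealOf ⟨x, hx⟩).asIdeal.primeCompl
    Γ(Spec (X.presheaf.stalk x), ⊤) _).mpr hbc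

end Stalk

/-- for a quasi-coherent module `F` and a point `x`, the global sections of the pullback of `F`
to `Spec 𝒪_{X,x}` are `𝒪_{X,x}`-linearly isomorphic to the stalk `F_x`. -/
theorem linearEquiv_stalk (x : X) (F : X.Modules) [F.IsQuasicoherent] :
    Nonempty ((F.presheaf.stalk x) ≃ₗ[X.presheaf.stalk x]
      Γ((Scheme.Modules.pullback (X.fromSpecStalk x)).obj F, ⊤)) := by
  obtain ⟨_, ⟨W, hW, rfl⟩, hxW, -⟩ :=
    X.isBasis_affineOpens.exists_subset_of_mem_open (Set.mem_univ x) isOpen_univ
  have e : (⊤ : (Spec (X.presheaf.stalk x)).Opens) ≤ (X.fromSpecStalk x) ⁻¹ᵁ W := by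
    intro p _
    have h : (X.fromSpecStalk x) p ∈ {y | y ⤳ x} := by
      rw [← Scheme.range_fromSpecStalk]
      exact ⟨p, rfl⟩
    exact (h : _ ⤳ _).mem_open W.2 hxW
  letI instA1 := stalkΓModule F x W hxW
  haveI := isLocalizedModule_germ F hW x hxW
  letI instA2 := pbModule (X.fromSpecStalk x) F e
  haveI := isLocalizedModule_pbSec x hW hxW F e
  let εA := IsLocalizedModule.linearEquiv (hW.primeIdealOf ⟨x, hxW⟩).asIdeal.primeCompl
    (germLinear F x W hxW) (pbSecₗ (X.fromSpecStalk x) F e)
  letI : Algebra Γ(X, W) (X.presheaf.stalk x) :=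
    TopCat.Presheaf.algebra_section_stalk X.presheaf ⟨x, hxW⟩
  haveI := hW.isLocalization_stalk ⟨x, hxW⟩
  haveI t1 : IsScalarTower Γ(X, W) (X.presheaf.stalk x) (F.presheaf.stalk x) := by
    refine ⟨fun a k n => ?_⟩
    rw [Algebra.smul_def, mul_smul]
    rfl
  haveI t2 : IsScalarTower Γ(X, W) (X.presheaf.stalk x)
      Γ((Scheme.Modules.pullback (X.fromSpecStalk x)).obj F, ⊤) := by
    refine ⟨fun a k p => ?_⟩
    rw [tilde_smul_top, tilde_smul_top]
    change _ = ((X.fromSpecStalk x).appLE W ⊤ e).hom a •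
      (((Scheme.ΓSpecIso (X.presheaf.stalk x)).inv k) • p)
    rw [appLE_eq x hxW e a, Algebra.smul_def, map_mul, mul_smul]
    rfl
  exact ⟨LinearEquiv.extendScalarsOfIsLocalization
    (hW.primeIdealOf ⟨x, hxW⟩).asIdeal.primeCompl (X.presheaf.stalk x) εA⟩

/-- on an integral scheme, the unit `F ⟶ j_* j^* F` for the generic point
`j : Spec K(X) ⟶ X` is a monomorphism when `F` is quasi-coherent and torsion-free. -/
theorem mono_unit [IsIntegral X] (F : X.Modules) [F.IsQuasicoherent]
    (hF : TorSh.IsTorsionFree F) :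
    Mono ((Scheme.Modules.pullbackPushforwardAdjunction
      (X.fromSpecStalk (genericPoint X))).unit.app F) := by
  refine Groth.Agent.H3.ZClosCover.mono_of_injective_basis _ X.affineOpens
    X.isBasis_affineOpens fun W hW => ?_
  have key : ∀ m : Γ(F, W), unitSec (X.fromSpecStalk (genericPoint X)) F W m = 0 → m = 0 := by
    intro m hm
    by_cases hη : genericPoint X ∈ W
    · have e := top_le_preimage W hη
      have h1 : pbSec (X.fromSpecStalk (genericPoint X)) F e m = 0 := by
        unfold pbSec
        rw [hm, map_zero]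
      letI := pbModule (X.fromSpecStalk (genericPoint X)) F e
      haveI := isLocalizedModule_pbSec (genericPoint X) hW hη F e
      obtain ⟨s, hs⟩ := (IsLocalizedModule.eq_zero_iff
        (hW.primeIdealOf ⟨genericPoint X, hη⟩).asIdeal.primeCompl
        (pbSecₗ (X.fromSpecStalk (genericPoint X)) F e)).mp h1
      refine section_eq_zero F hF W s.1 ?_ m hs
      intro h0
      exact s.2 (h0 ▸ Submodule.zero_mem _)
    · have hW0 : W = ⊥ := by
        by_contra hne
        apply hη
        obtain ⟨y, hy⟩ := (Opens.ne_bot_iff_nonempty W).mp hne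
        exact ((genericPoint_spec X).mem_open_set_iff W.2).mpr ⟨y, trivial, hy⟩
      haveI := Groth.Agent.H2.ExtInv.subsingleton_sections_of_eq_bot F W hW0
      exact Subsingleton.elim _ _
  intro a b hab
  have h0 : unitSec (X.fromSpecStalk (genericPoint X)) F W (a - b) = 0 := by
    have := map_sub (((Scheme.Modules.pullbackPushforwardAdjunction
      (X.fromSpecStalk (genericPoint X))).unit.app F).app W).hom a b
    exact this.trans (sub_eq_zero.mpr hab)
  exact sub_eq_zero.mp (key (a - b) h0)

/-- a quasi-coherent module over the spectrum of a field whose global sections are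
one-dimensional is isomorphic to the structure sheaf. -/
theorem nonempty_iso_unit {R : CommRingCat.{u}} (hR : IsField R) (M : (Spec R).Modules)
    [M.IsQuasicoherent] (h : Module.finrank R Γ(M, ⊤) = 1) :
    Nonempty (M ≅ SheafOfModules.unit (Spec R).ringCatSheaf) := by
  letI := hR.toField
  haveI : Module.Finite R Γ(M, ⊤) := Module.finite_of_finrank_eq_succ h
  obtain ⟨ℓ⟩ := FiniteDimensional.nonempty_linearEquiv_of_finrank_eq (R := R) (M := Γ(M, ⊤))
    (M' := R) (by rw [h, Module.finrank_self])
  let i1 : (modulesSpecToSheaf.obj M).presheaf.obj (op ⊤) ≅ ModuleCat.of R R :=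
    LinearEquiv.toModuleIso (X₁ := (modulesSpecToSheaf.obj M).presheaf.obj (op ⊤)) ℓ
  exact ⟨(asIso M.fromTildeΓ).symm ≪≫ (tilde.functor R).mapIso i1 ≪≫ tildeSelf⟩

/-- **S4350**. -/
theorem main (X : Scheme.{u}) [IsIntegral X] (F : X.Modules) [F.IsQuasicoherent]
    (hF : TorSh.IsTorsionFree F)
    (h1 : Module.finrank (X.presheaf.stalk (genericPoint X))
      (F.presheaf.stalk (genericPoint X)) = 1) :
    ∃ i : F ⟶ (Scheme.Modules.pushforward (X.fromSpecStalk (genericPoint X))).obj
        (Coh.structureModule (Spec (X.presheaf.stalk (genericPoint X)))), Mono i := by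
  haveI := qc_pullback (X.fromSpecStalk (genericPoint X)) F
  obtain ⟨ℓ⟩ := linearEquiv_stalk (genericPoint X) F
  have h2 : Module.finrank (X.presheaf.stalk (genericPoint X))
      Γ((Scheme.Modules.pullback (X.fromSpecStalk (genericPoint X))).obj F, ⊤) = 1 := by
    rw [← ℓ.finrank_eq]
    exact h1
  have hfield : IsField (X.presheaf.stalk (genericPoint X)) :=
    Field.toIsField X.functionField
  obtain ⟨φ⟩ := nonempty_iso_unit hfield
    ((Scheme.Modules.pullback (X.fromSpecStalk (genericPoint X))).obj F) h2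
  haveI := mono_unit F hF
  exact ⟨(Scheme.Modules.pullbackPushforwardAdjunction
      (X.fromSpecStalk (genericPoint X))).unit.app F ≫
    (Scheme.Modules.pushforward (X.fromSpecStalk (genericPoint X))).map φ.hom, mono_comp _ _⟩

end Groth.Agent.LD.RankOne
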