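import Mathlib
import Groth.Prelude.Def_TorSh
import Groth.Prelude.Def_Coh
import Groth.Agent.Lib.Lead.Misc2.RankOne
import Groth.Agent.Lib.Helper2.TorShPush
import Groth.Agent.Lib.Lead.QC.SuppPullback
import Groth.Agent.Lib.Lead.QC.Gen

/-!
# Quasi-coherent submodules of the sheaf of rational functions are torsion-free of rank one (lead)
-/

set_option autoImplicit false
set_option linter.style.haveILetI false
universe u
open CategoryTheory Limits AlgebraicGeometry TopologicalSpace Opposite

namespace Groth.Agent.LD.RankOne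

open Groth.Agent.LD.QC

variable {X : Scheme.{u}}

/-- torsion-freeness can be tested on sections (adapted from
`Groth.Agent.H2.TorShPush.main`). -/
theorem isTorsionFree_of_sections (G : X.Modules)
    (h : ∀ (W : X.Opens) (a : Γ(X, W)), a ≠ 0 → ∀ s : Γ(G, W), a • s = 0 → s = 0) :
    TorSh.IsTorsionFree G := by
  intro y
  constructor
  intro r hr
  suffices key : ∀ m : G.presheaf.stalk y, r • m = 0 → m = 0 by
    intro m₁ m₂ hmm
    have h1 : r • (m₁ - m₂) = 0 := by
      rw [smul_sub]; exact sub_eq_zero.mpr hmm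
    exact sub_eq_zero.mp (key _ h1)
  intro m hm
  obtain ⟨V₁, hyV₁, s₁, rfl⟩ := TopCat.Presheaf.exists_germ_eq G.presheaf m
  obtain ⟨V₂, hyV₂, a₂, rfl⟩ := TopCat.Presheaf.exists_germ_eq X.presheaf r
  have hyV : y ∈ V₁ ⊓ V₂ := ⟨hyV₁, hyV₂⟩
  have e1 := (germ_res G y (inf_le_left : V₁ ⊓ V₂ ≤ V₁) hyV s₁).symm
  have e2 := (sgerm_res y (inf_le_right : V₁ ⊓ V₂ ≤ V₂) hyV a₂).symm
  rw [e1, e2, ← germ_smul G y (V₁ ⊓ V₂) hyV] at hm
  obtain ⟨W, hWV, hyW, hW⟩ := exists_res_eq_zero_of_germ_eq_zero G y hyV _ hm
  rw [smul_res G hWV] at hW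
  have e3 := (germ_res G y hWV hyW
    (G.presheaf.map (homOfLE (inf_le_left : V₁ ⊓ V₂ ≤ V₁)).op s₁)).symm
  have e4 := (sgerm_res y hWV hyW
    (X.presheaf.map (homOfLE (inf_le_right : V₁ ⊓ V₂ ≤ V₂)).op a₂)).symm
  rw [e1, e3]
  have ha0 : X.presheaf.map (homOfLE hWV).op
      (X.presheaf.map (homOfLE (inf_le_right : V₁ ⊓ V₂ ≤ V₂)).op a₂) ≠ 0 := by
    intro h0
    have : X.presheaf.germ V₂ y hyV₂ a₂ = 0 := by
      rw [e2, e4, h0, map_zero]
    rw [this] at hr
    exact hr.ne_zero rfl
  rw [h W _ ha0 _ hW, map_zero]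

lemma isDominant_fromSpecStalk [IsIntegral X] :
    IsDominant (X.fromSpecStalk (genericPoint X)) := by
  refine ⟨?_⟩
  have h1 : Dense ({genericPoint X} : Set X) :=
    dense_iff_closure_eq.mpr (genericPoint_spec X).def
  refine h1.mono ?_
  rw [Set.singleton_subset_iff]
  exact ⟨IsLocalRing.closedPoint (X.presheaf.stalk (genericPoint X)), Scheme.fromSpecStalk_closedPoint⟩

lemma eq_bot_of_generic_notMem [IsIntegral X] (W : X.Opens) (hη : genericPoint X ∉ W) :
    W = ⊥ := by
  by_contra hne
  apply hη
  obtain ⟨y, hy⟩ := (Opens.ne_bot_iff_nonempty W).mp hne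
  exact ((genericPoint_spec X).mem_open_set_iff W.2).mpr ⟨y, trivial, hy⟩

section Sub

variable [IsIntegral X] (G : X.Modules)
  (i : G ⟶ (Scheme.Modules.pushforward (X.fromSpecStalk (genericPoint X))).obj
    (Coh.structureModule (Spec (X.presheaf.stalk (genericPoint X))))) [Mono i]

include i in
/-- sections of a submodule of the sheaf of rational functions have no torsion. -/
theorem section_eq_zero_of_mono (W : X.Opens) (a : Γ(X, W)) (ha : a ≠ 0) (s : Γ(G, W))
    (hs : a • s = 0) : s = 0 := by
  by_cases hη : genericPoint X ∈ W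
  · haveI : IsDominant (X.fromSpecStalk (genericPoint X)) := isDominant_fromSpecStalk
    refine mono_app i W (Eq.trans ?_ (map_zero (i.app W).hom).symm)
    have hja : (X.fromSpecStalk (genericPoint X)).app W a ≠ 0 :=
      Groth.Agent.H2.TorShPush.app_ne_zero (X.fromSpecStalk (genericPoint X)) W a ha
    have h0 := Scheme.Modules.Hom.app_smul i a s
    rw [hs, map_zero] at h0
    haveI : Nonempty ↥((X.fromSpecStalk (genericPoint X)) ⁻¹ᵁ W) :=
      ⟨⟨IsLocalRing.closedPoint (X.presheaf.stalk (genericPoint X)), top_le_preimage W hη trivial⟩⟩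
    haveI : IsDomain (X.presheaf.stalk (genericPoint X)) :=
      inferInstanceAs (IsDomain X.functionField)
    haveI : IsIntegral (Spec (X.presheaf.stalk (genericPoint X))) := inferInstance
    haveI := @IsIntegral.component_integral (Spec (X.presheaf.stalk (genericPoint X))) _
      ((X.fromSpecStalk (genericPoint X)) ⁻¹ᵁ W)
      ⟨⟨IsLocalRing.closedPoint (X.presheaf.stalk (genericPoint X)),
        top_le_preimage W hη trivial⟩⟩
    have h2 : ((X.fromSpecStalk (genericPoint X)).app W a) *
        (show Γ(Spec (X.presheaf.stalk (genericPoint X)),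
          (X.fromSpecStalk (genericPoint X)) ⁻¹ᵁ W) from i.app W s) = 0 := h0.symm
    rcases mul_eq_zero.mp h2 with h3 | h3
    · exact absurd h3 hja
    · exact h3
  · haveI := Groth.Agent.H2.ExtInv.subsingleton_sections_of_eq_bot G W
      (eq_bot_of_generic_notMem W hη)
    exact Subsingleton.elim _ _

include i in
theorem isTorsionFree_of_mono : TorSh.IsTorsionFree G :=
  isTorsionFree_of_sections G (section_eq_zero_of_mono G i)

end Sub

/-- the global sections of the structure sheaf of `Spec R` have rank one over `R`. -/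
lemma finrank_unit_top (R : CommRingCat.{u}) [Nontrivial R] :
    Module.finrank R Γ(SheafOfModules.unit (Spec R).ringCatSheaf, ⊤) = 1 := by
  have e := (tilde.toTildeΓNatIso.app (ModuleCat.of R R)).toLinearEquiv
  exact (e.finrank_eq).symm.trans (Module.finrank_self R)

section Rank

variable [IsIntegral X] (G : X.Modules) [G.IsQuasicoherent]
  (i : G ⟶ (Scheme.Modules.pushforward (X.fromSpecStalk (genericPoint X))).obj
    (Coh.structureModule (Spec (X.presheaf.stalk (genericPoint X))))) [Mono i]

include i in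
/-- a nonzero quasi-coherent submodule of the sheaf of rational functions has a nonzero generic
stalk. -/
theorem nontrivial_stalk_of_mono (hG : ¬ IsZero G) :
    Nontrivial (G.presheaf.stalk (genericPoint X)) := by
  by_contra hsub
  rw [not_nontrivial_iff_subsingleton] at hsub
  apply hG
  apply isZero_of_subsingleton_stalks
  intro x
  refine ⟨fun m₁ m₂ => ?_⟩
  suffices key : ∀ m : G.presheaf.stalk x, m = 0 by rw [key m₁, key m₂]
  intro m
  obtain ⟨V, hxV, s, rfl⟩ := TopCat.Presheaf.exists_germ_eq G.presheaf m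
  obtain ⟨_, ⟨W, hW, rfl⟩, hxW, hWV⟩ :=
    X.isBasis_affineOpens.exists_subset_of_mem_open hxV V.2
  have hη : genericPoint X ∈ W := by
    by_contra hη
    have := eq_bot_of_generic_notMem W hη
    rw [this] at hxW
    exact hxW
  have hWV' : W ≤ V := hWV
  rw [← germ_res G x hWV' hxW s]
  have h1 : G.presheaf.germ W (genericPoint X) hη (G.presheaf.map (homOfLE hWV').op s) = 0 :=
    Subsingleton.elim _ _
  letI := stalkΓModule G (genericPoint X) W hη
  haveI := isLocalizedModule_germ G hW (genericPoint X) hη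
  obtain ⟨a, ha⟩ := (IsLocalizedModule.eq_zero_iff
    (hW.primeIdealOf ⟨genericPoint X, hη⟩).asIdeal.primeCompl
    (germLinear G (genericPoint X) W hη)).mp h1
  have h2 : G.presheaf.map (homOfLE hWV').op s = 0 := by
    refine section_eq_zero_of_mono G i W a.1 ?_ _ ha
    intro h0
    exact a.2 (h0 ▸ Submodule.zero_mem _)
  rw [h2, map_zero]

include i in
/-- **S4356**, rank part. -/
theorem finrank_stalk_of_mono (hG : ¬ IsZero G) :
    Module.finrank (X.presheaf.stalk (genericPoint X))
      (G.presheaf.stalk (genericPoint X)) = 1 := by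
  haveI := qc_pullback (X.fromSpecStalk (genericPoint X)) G
  obtain ⟨ℓ⟩ := linearEquiv_stalk (genericPoint X) G
  haveI hnt := nontrivial_stalk_of_mono G i hG
  -- the adjunct of `i`
  let adj := Scheme.Modules.pullbackPushforwardAdjunction (X.fromSpecStalk (genericPoint X))
  let ψ := (adj.homEquiv _ _).symm i
  have hψ : i = adj.unit.app G ≫
      (Scheme.Modules.pushforward (X.fromSpecStalk (genericPoint X))).map ψ := by
    have hψ' : adj.homEquiv _ _ ψ = adj.unit.app G ≫
        (Scheme.Modules.pushforward (X.fromSpecStalk (genericPoint X))).map ψ :=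
      Adjunction.homEquiv_unit ..
    exact ((adj.homEquiv _ _).apply_symm_apply i).symm.trans hψ'
  -- the induced linear map on global sections
  let Ψ : Γ((Scheme.Modules.pullback (X.fromSpecStalk (genericPoint X))).obj G, ⊤)
      →ₗ[X.presheaf.stalk (genericPoint X)]
      Γ(SheafOfModules.unit (Spec (X.presheaf.stalk (genericPoint X))).ringCatSheaf, ⊤) :=
    { toFun := fun p => ψ.app ⊤ p
      map_add' := fun p q => map_add (ψ.app ⊤).hom p q
      map_smul' := fun r p => by
        rw [tilde_smul_top, RingHom.id_apply, tilde_smul_top]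
        exact Scheme.Modules.Hom.app_smul ψ _ p }
  have hΨ : Function.Injective Ψ := by
    rw [injective_iff_map_eq_zero]
    intro p hp
    obtain ⟨_, ⟨W, hW, rfl⟩, hηW, -⟩ :=
      X.isBasis_affineOpens.exists_subset_of_mem_open
        (Set.mem_univ (genericPoint X)) isOpen_univ
    have e := top_le_preimage W hηW
    letI := pbModule (X.fromSpecStalk (genericPoint X)) G e
    haveI := isLocalizedModule_pbSec (genericPoint X) hW hηW G e
    obtain ⟨⟨m, s⟩, hms⟩ := IsLocalizedModule.surj
      (hW.primeIdealOf ⟨genericPoint X, hηW⟩).asIdeal.primeCompl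
      (pbSecₗ (X.fromSpecStalk (genericPoint X)) G e) p
    have hms' : ((X.fromSpecStalk (genericPoint X)).appLE W ⊤ e).hom s.1 • p =
        pbSec (X.fromSpecStalk (genericPoint X)) G e m := hms
    -- `ψ` kills `pbSec m`
    have h1 : ψ.app ⊤ (pbSec (X.fromSpecStalk (genericPoint X)) G e m) = 0 := by
      rw [← hms', Scheme.Modules.Hom.app_smul]
      have : ψ.app ⊤ p = 0 := hp
      rw [this, smul_zero]
    -- hence `i m = 0`
    have h2 : ψ.app ((X.fromSpecStalk (genericPoint X)) ⁻¹ᵁ W)
        (unitSec (X.fromSpecStalk (genericPoint X)) G W m) = 0 := by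
      have h3 := app_res ψ e (unitSec (X.fromSpecStalk (genericPoint X)) G W m)
      have h4 : (Coh.structureModule (Spec (X.presheaf.stalk (genericPoint X)))).presheaf.map
          (homOfLE e).op (ψ.app ((X.fromSpecStalk (genericPoint X)) ⁻¹ᵁ W)
            (unitSec (X.fromSpecStalk (genericPoint X)) G W m)) = 0 := by
        rw [← h3]; exact h1
      have h5 := congrArg ((Coh.structureModule
        (Spec (X.presheaf.stalk (genericPoint X)))).presheaf.map
          (homOfLE (le_top : (X.fromSpecStalk (genericPoint X)) ⁻¹ᵁ W ≤ ⊤)).op) h4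
      rw [map_zero, res_res] at h5
      have h6 : (homOfLE (le_refl ((X.fromSpecStalk (genericPoint X)) ⁻¹ᵁ W))).op = 𝟙 _ :=
        Subsingleton.elim _ _
      rw [h6, CategoryTheory.Functor.map_id] at h5
      exact h5
    have h7 : i.app W m = 0 := by
      rw [hψ]
      exact h2
    have hm0 : m = 0 := mono_app i W (h7.trans (map_zero (i.app W).hom).symm)
    rw [hm0, map_zero] at hms
    exact IsLocalizedModule.smul_injective
      (pbSecₗ (X.fromSpecStalk (genericPoint X)) G e) s (hms.trans (smul_zero _).symm)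
  have hrk := finrank_unit_top (X.presheaf.stalk (genericPoint X))
  haveI : Module.Finite (X.presheaf.stalk (genericPoint X))
      Γ(SheafOfModules.unit (Spec (X.presheaf.stalk (genericPoint X))).ringCatSheaf, ⊤) :=
    Module.finite_of_finrank_pos (by rw [hrk]; exact Nat.one_pos)
  have hle : Module.finrank (X.presheaf.stalk (genericPoint X))
      Γ((Scheme.Modules.pullback (X.fromSpecStalk (genericPoint X))).obj G, ⊤) ≤ 1 := by
    rw [← hrk]
    exact LinearMap.finrank_le_finrank_of_injective hΨ
  haveI : Module.Finite (X.presheaf.stalk (genericPoint X))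
      Γ((Scheme.Modules.pullback (X.fromSpecStalk (genericPoint X))).obj G, ⊤) :=
    Module.Finite.of_injective Ψ hΨ
  haveI : Nontrivial Γ((Scheme.Modules.pullback (X.fromSpecStalk (genericPoint X))).obj G, ⊤) :=
    ℓ.toEquiv.symm.nontrivial
  have hpos : 0 < Module.finrank (X.presheaf.stalk (genericPoint X))
      Γ((Scheme.Modules.pullback (X.fromSpecStalk (genericPoint X))).obj G, ⊤) :=
    Module.finrank_pos
  rw [ℓ.finrank_eq]
  omega

end Rank

/-- **S4356**. -/
theorem main_conv (X : Scheme.{u}) [IsIntegral X] (G : X.Modules) [G.IsQuasicoherent]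
    (i : G ⟶ (Scheme.Modules.pushforward (X.fromSpecStalk (genericPoint X))).obj
        (Coh.structureModule (Spec (X.presheaf.stalk (genericPoint X))))) [Mono i]
    (hG : ¬ Limits.IsZero G) :
    TorSh.IsTorsionFree G ∧
      Module.finrank (X.presheaf.stalk (genericPoint X))
        (G.presheaf.stalk (genericPoint X)) = 1 :=
  ⟨isTorsionFree_of_mono G i, finrank_stalk_of_mono G i hG⟩

end Groth.Agent.LD.RankOne
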