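import Groth.Agent.Lib.Lead.FBC.ExtAct
import Mathlib.LinearAlgebra.TensorProduct.Basic

/-! # A split comparison map `M ⊗_A Ext(Z, a) → Ext(Z, p)`.

Let `A` act on `a` through `ρ`, let `η : M → Hom(a, p)` be `A`-semilinear, and suppose there are
finitely many `b_j ∈ M`, `λ_j : M → A` and `l_j : p → a` with `∑ l_j ≫ η(b_j) = 𝟙`,
`η(m) ≫ l_j = ρ(λ_j m)` and `∑ λ_j(m) b_j = m`.  Then `m ⊗ x ↦ x ≫ η(m)` is bijective on all
`Ext` groups. -/

universe w v u

open CategoryTheory Limits Abelian TensorProduct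

namespace Groth.Agent.LD.FinProjBC

open Groth.Agent.LD.FBC

variable {C : Type u} [Category.{v} C] [Abelian C] [HasExt.{w} C]
variable {A : Type*} [CommRing A] {a p : C} (ρ : A →+* End a)
variable {M : Type*} [AddCommGroup M] [Module A M]
  (η : M →+ (a ⟶ p)) (hη : ∀ (r : A) (m : M), η (r • m) = ρ r ≫ η m)

/-- the bilinear map underlying `phi`. -/
noncomputable def phiAux (Z : C) (n : ℕ) : M →+ ExtA ρ Z n →+ Ext.{w} Z p n where
  toFun m :=
    { toFun := fun x => (ExtA.val ρ x).comp (Ext.mk₀ (η m)) (add_zero n)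
      map_zero' := by
        change (0 : Ext.{w} Z a n).comp (Ext.mk₀ (η m)) (add_zero n) = 0
        rw [Ext.zero_comp]
      map_add' := fun x y => by
        change (ExtA.val ρ x + ExtA.val ρ y).comp (Ext.mk₀ (η m)) (add_zero n) =
          (ExtA.val ρ x).comp (Ext.mk₀ (η m)) (add_zero n) +
            (ExtA.val ρ y).comp (Ext.mk₀ (η m)) (add_zero n)
        rw [Ext.add_comp] }
  map_zero' := by
    ext x
    change (ExtA.val ρ x).comp (Ext.mk₀ (η 0)) (add_zero n) = 0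
    rw [map_zero, Ext.mk₀_zero, Ext.comp_zero]
  map_add' m m' := by
    ext x
    change (ExtA.val ρ x).comp (Ext.mk₀ (η (m + m'))) (add_zero n) =
      (ExtA.val ρ x).comp (Ext.mk₀ (η m)) (add_zero n) +
        (ExtA.val ρ x).comp (Ext.mk₀ (η m')) (add_zero n)
    rw [map_add, Ext.mk₀_add, Ext.comp_add]

include hη in
lemma phiAux_smul (Z : C) (n : ℕ) (r : A) (m : M) (x : ExtA ρ Z n) :
    phiAux ρ η Z n (r • m) x = phiAux ρ η Z n m (r • x) := by
  change (ExtA.val ρ x).comp (Ext.mk₀ (η (r • m))) (add_zero n) =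
    ((ExtA.val ρ x).comp (Ext.mk₀ (ρ r)) (add_zero n)).comp (Ext.mk₀ (η m)) (add_zero n)
  rw [hη, ← Ext.mk₀_comp_mk₀, Ext.comp_assoc_of_third_deg_zero]

/-- the comparison map `M ⊗_A Ext(Z, a) → Ext(Z, p)`, `m ⊗ x ↦ x ≫ η(m)`. -/
noncomputable def phi (Z : C) (n : ℕ) : M ⊗[A] ExtA ρ Z n →+ Ext.{w} Z p n :=
  TensorProduct.liftAddHom (phiAux ρ η Z n) (phiAux_smul ρ η hη Z n)

lemma phi_tmul (Z : C) (n : ℕ) (m : M) (x : ExtA ρ Z n) :
    phi ρ η hη Z n (m ⊗ₜ x) = (ExtA.val ρ x).comp (Ext.mk₀ (η m)) (add_zero n) := rfl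

/-- **the split comparison map is bijective.** -/
theorem phi_bijective {ι : Type*} [Fintype ι] (b : ι → M) (lam : ι → (M →ₗ[A] A))
    (l : ι → (p ⟶ a))
    (h1 : ∑ j, l j ≫ η (b j) = 𝟙 p)
    (h2 : ∀ (m : M) (j : ι), η m ≫ l j = ρ (lam j m))
    (h3 : ∀ m : M, ∑ j, lam j m • b j = m) (Z : C) (n : ℕ) :
    Function.Bijective (phi ρ η hη Z n) := by
  have key : ∀ z : M ⊗[A] ExtA ρ Z n,
      z = ∑ j, b j ⊗ₜ[A]
        ExtA.mk ρ ((phi ρ η hη Z n z).comp (Ext.mk₀ (l j)) (add_zero n)) := by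
    intro z
    induction z using TensorProduct.induction_on with
    | zero =>
      symm
      apply Finset.sum_eq_zero
      intro j _
      rw [map_zero, Ext.zero_comp]
      exact TensorProduct.tmul_zero _ _
    | add x y hx hy =>
      conv_lhs => rw [hx, hy]
      rw [← Finset.sum_add_distrib]
      refine Finset.sum_congr rfl (fun j _ => ?_)
      rw [map_add, Ext.add_comp]
      exact (TensorProduct.tmul_add _ _ _).symm
    | tmul m x =>
      have hterm : ∀ j, b j ⊗ₜ[A]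
          ExtA.mk ρ ((phi ρ η hη Z n (m ⊗ₜ x)).comp (Ext.mk₀ (l j)) (add_zero n)) =
            (lam j m • b j) ⊗ₜ[A] x := by
        intro j
        rw [phi_tmul, Ext.comp_assoc_of_third_deg_zero, Ext.mk₀_comp_mk₀, h2]
        exact (TensorProduct.smul_tmul (lam j m) (b j) x).symm
      rw [Finset.sum_congr rfl (fun j _ => hterm j), ← TensorProduct.sum_tmul, h3]
  constructor
  · refine (injective_iff_map_eq_zero (phi ρ η hη Z n)).2 (fun z hz => ?_)
    refine (key z).trans ?_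
    apply Finset.sum_eq_zero
    intro j _
    rw [hz, Ext.zero_comp]
    exact TensorProduct.tmul_zero _ _
  · intro y
    refine ⟨∑ j, b j ⊗ₜ[A] ExtA.mk ρ (y.comp (Ext.mk₀ (l j)) (add_zero n)), ?_⟩
    have hterm : ∀ j, phi ρ η hη Z n
        (b j ⊗ₜ[A] ExtA.mk ρ (y.comp (Ext.mk₀ (l j)) (add_zero n))) =
          y.comp (Ext.mk₀ (l j ≫ η (b j))) (add_zero n) := by
      intro j
      rw [phi_tmul]
      change (y.comp (Ext.mk₀ (l j)) (add_zero n)).comp (Ext.mk₀ (η (b j))) (add_zero n) = _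
      rw [Ext.comp_assoc_of_third_deg_zero, Ext.mk₀_comp_mk₀]
    rw [map_sum, Finset.sum_congr rfl (fun j _ => hterm j)]
    refine ((Ext.comp_sum y (fun j => Ext.mk₀ (l j ≫ η (b j))) (add_zero n)).symm).trans ?_
    rw [← Ext.mk₀_sum, h1, Ext.comp_mk₀_id]

end Groth.Agent.LD.FinProjBC
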