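import Groth.Prelude.Def_ModSite2
import Groth.Agent.Lib.Lead.MS.PushLeftAdj

/-!
# Exactness of the stalk functor at a point of a ringed site
-/

set_option autoImplicit false
universe u
open CategoryTheory Limits Opposite

namespace Groth.Agent.LD.StalkExact

open ModSite

variable {C : Type u} [SmallCategory C] {J : GrothendieckTopology C}

theorem main (O : Sheaf J CommRingCat.{u}) (S : ShortComplex (ModSite.Mod O)) (hS : S.ShortExact)
    (p : GrothendieckTopology.Point.{u} J) :
    Function.Injective (ModSite.stalkMap p S.f).hom ∧
      Function.Surjective (ModSite.stalkMap p S.g).hom ∧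
      LinearMap.range (ModSite.stalkMap p S.f).hom =
        LinearMap.ker (ModSite.stalkMap p S.g).hom := by
  let F : ModSite.Mod O ⥤ AddCommGrpCat.{u} :=
    SheafOfModules.toSheaf (ringSh O) ⋙ p.sheafFiber
  haveI : PreservesFiniteColimits (SheafOfModules.toSheaf.{u} (ringSh O)) :=
    PreservesColimitsOfSize.preservesFiniteColimits _
  haveI : PreservesFiniteLimits F := comp_preservesFiniteLimits _ _
  haveI : PreservesFiniteColimits F := comp_preservesFiniteColimits _ _
  have hS' := hS.map_of_exact F
  have hinj : Function.Injective (F.map S.f) :=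
    (AddCommGrpCat.mono_iff_injective _).mp hS'.mono_f
  have hsurj : Function.Surjective (F.map S.g) :=
    (AddCommGrpCat.epi_iff_surjective _).mp hS'.epi_g
  have hex := (ShortComplex.ab_exact_iff_function_exact _).mp hS'.exact
  refine ⟨hinj, hsurj, ?_⟩
  ext y
  rw [LinearMap.mem_range, LinearMap.mem_ker]
  exact (hex y).symm

end Groth.Agent.LD.StalkExact
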