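import Groth.Agent.Lib.Lead.LF.RestrIso
import Groth.Agent.Lib.Helper2.HomSh4
import Groth.Agent.Lib.Lead.QC.Coh

/-!
# Extending a linear map of stalks of coherent modules to a neighbourhood
-/

set_option autoImplicit false
universe u
open CategoryTheory Limits AlgebraicGeometry TopologicalSpace Opposite

namespace Groth.Agent.LD.StalkHomExt

open Groth.Agent.H2.HomSh Groth.Agent.LD Groth.Agent.LD.LF

attribute [-instance] Groth.Agent.LD.QC.stalkModule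

variable {X : Scheme.{u}}

section Key

variable (U : X.Opens) (x : X) (hx : x ∈ U)

lemma mem_image (O : (U : Scheme.{u}).Opens) (hO : (⟨x, hx⟩ : U) ∈ O) : x ∈ U.ι ''ᵁ O :=
  ⟨⟨x, hx⟩, hO, rfl⟩

lemma hom_germ (M : X.Modules) (O : (U : Scheme.{u}).Opens) (hO : (⟨x, hx⟩ : U) ∈ O)
    (s : Γ(M.restrict U.ι, O)) :
    ((Scheme.Modules.restrictStalkNatIso U.ι (⟨x, hx⟩ : U)).hom.app M).hom
      ((M.restrict U.ι).presheaf.germ O ⟨x, hx⟩ hO s) =
    M.presheaf.germ (U.ι ''ᵁ O) x (mem_image U x hx O hO) (ofRestrictSec U.ι M O s) :=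
  congr($(Scheme.Modules.germ_restrictStalkNatIso_hom_app U.ι ⟨x, hx⟩ M hO) s)

theorem key (F G : X.Modules) (φ : G.restrict U.ι ⟶ F.restrict U.ι)
    (ψ : G.presheaf.stalk x ⟶ F.presheaf.stalk x)
    (h : ∀ (O : (U : Scheme.{u}).affineOpens) (hO : (⟨x, hx⟩ : U) ∈ O.1)
      (s : Γ(G.restrict U.ι, O.1)),
       F.presheaf.germ (U.ι ''ᵁ O.1) x (mem_image U x hx O.1 hO)
          (ofRestrictSec U.ι F O.1 (φ.app O.1 s)) =
       ψ.hom (G.presheaf.germ (U.ι ''ᵁ O.1) x (mem_image U x hx O.1 hO)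
          (ofRestrictSec U.ι G O.1 s))) :
    (Scheme.Modules.restrictStalkNatIso U.ι (⟨x, hx⟩ : U)).inv.app G ≫
          (TopCat.Presheaf.stalkFunctor _ (⟨x, hx⟩ : U)).map φ.mapPresheaf ≫
            (Scheme.Modules.restrictStalkNatIso U.ι (⟨x, hx⟩ : U)).hom.app F = ψ := by
  refine (Iso.inv_comp_eq ((Scheme.Modules.restrictStalkNatIso U.ι (⟨x, hx⟩ : U)).app G)).mpr ?_
  refine TopCat.Presheaf.stalk_hom_ext (G.restrict U.ι).presheaf (fun O hO => ?_)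
  refine ConcreteCategory.hom_ext _ _ (fun s => ?_)
  obtain ⟨O', hO'aff, hxO', hO'le⟩ :=
    Opens.isBasis_iff_nbhd.mp (Scheme.isBasis_affineOpens (U : Scheme.{u})) hO
  have e1 : (G.restrict U.ι).presheaf.germ O ⟨x, hx⟩ hO s =
      (G.restrict U.ι).presheaf.germ O' ⟨x, hx⟩ hxO'
        ((G.restrict U.ι).presheaf.map (homOfLE hO'le).op s) :=
    (TopCat.Presheaf.germ_res_apply _ (homOfLE hO'le) _ hxO' s).symm
  change ((Scheme.Modules.restrictStalkNatIso U.ι (⟨x, hx⟩ : U)).hom.app F).hom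
      (((TopCat.Presheaf.stalkFunctor _ (⟨x, hx⟩ : U)).map φ.mapPresheaf).hom
        ((G.restrict U.ι).presheaf.germ O ⟨x, hx⟩ hO s)) =
    ψ.hom (((Scheme.Modules.restrictStalkNatIso U.ι (⟨x, hx⟩ : U)).hom.app G).hom
      ((G.restrict U.ι).presheaf.germ O ⟨x, hx⟩ hO s))
  rw [e1]
  have e2 : ((TopCat.Presheaf.stalkFunctor _ (⟨x, hx⟩ : U)).map φ.mapPresheaf).hom
        ((G.restrict U.ι).presheaf.germ O' ⟨x, hx⟩ hxO'
          ((G.restrict U.ι).presheaf.map (homOfLE hO'le).op s)) =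
      (F.restrict U.ι).presheaf.germ O' ⟨x, hx⟩ hxO'
        (φ.app O' ((G.restrict U.ι).presheaf.map (homOfLE hO'le).op s)) :=
    TopCat.Presheaf.stalkFunctor_map_germ_apply O' ⟨x, hx⟩ hxO' φ.mapPresheaf _
  rw [e2, hom_germ U x hx F O' hxO', hom_germ U x hx G O' hxO']
  exact h ⟨O', hO'aff⟩ hxO' _

end Key

theorem main [IsLocallyNoetherian X] (F G : X.Modules) (hF : Coh.IsCoh F) (hG : Coh.IsCoh G)
    (x : X) (ψ : ↑(G.presheaf.stalk x) →ₗ[X.presheaf.stalk x] ↑(F.presheaf.stalk x)) :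
    ∃ (U : X.Opens) (hx : x ∈ U)
      (φ : (Scheme.Modules.restrictFunctor U.ι).obj G ⟶
        (Scheme.Modules.restrictFunctor U.ι).obj F),
      (Scheme.Modules.restrictStalkNatIso U.ι (⟨x, hx⟩ : U)).inv.app G ≫
          (TopCat.Presheaf.stalkFunctor _ (⟨x, hx⟩ : U)).map φ.mapPresheaf ≫
            (Scheme.Modules.restrictStalkNatIso U.ι (⟨x, hx⟩ : U)).hom.app F =
        AddCommGrpCat.ofHom ψ.toAddMonoidHom := by
  have hGfp : G.IsFinitePresentation := QC.isFinitePresentation_of_qc_ft G hG.1 hG.2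
  haveI : G.IsQuasicoherent := hG.1
  obtain ⟨θ, hθ⟩ := evalStalk_surjective (F := G) (G := F) hGfp x ψ
  obtain ⟨U, hxU, σ, rfl⟩ := TopCat.Presheaf.exists_germ_eq (RefHull.homSh G F).presheaf θ
  rw [RefHull.evalStalk_germ] at hθ
  refine ⟨U, hxU, homOfSecOn G F σ U le_rfl, ?_⟩
  refine key U x hxU F G _ _ (fun O hO s => ?_)
  rw [homOfSecOn_app, ofRestrictSec_toRestrictSec, germ_app]
  have hθ' : σ.1 ⟨x, ((Scheme.Opens.ι_image_le U O.1).trans le_rfl) (mem_image U x hxU O.1 hO)⟩ = ψ := hθ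
  rw [hθ']
  rfl

end Groth.Agent.LD.StalkHomExt
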